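import Cfsg.Agent.ThreeNine.Classes
import Cfsg.Agent.SmallSimple.ColumnData
import Cfsg.Agent.Char.ClassProducts

/-!
# A strongly self-centralising subgroup of order nine: the character table on it
-/

set_option autoImplicit false
set_option linter.style.haveILetI false
set_option linter.unusedSectionVars false

namespace CfsgLib.ThreeNine

open Finset CfsgLib.Char
open scoped ComplexConjugate

variable {G : Type*} [Group G] [Finite G]

/-- Number of solutions of `a + b = r` with `a` in the class of `p` and `b` in the class of `q`. -/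
def count (R : ZMod 3 × ZMod 3 → ZMod 3 × ZMod 3 → Prop) [DecidableRel R] (p q r : ZMod 3 × ZMod 3) : ℕ :=
  (Finset.univ.filter fun a => a ≠ 0 ∧ r - a ≠ 0 ∧ R p a ∧ R q (r - a)).card

/-- The integral data extracted from the character table. -/
structure Table (n : ℕ) {ι : Type*} (I : Finset ι) (R : ZMod 3 × ZMod 3 → ZMod 3 × ZMod 3 → Prop) [DecidableRel R]
    (d : ι → ℤ) (V : ι → ZMod 3 × ZMod 3 → ℤ) (o : ι) : Prop where
  triv : o ∈ I ∧ d o = 1 ∧ ∀ p, p ≠ 0 → V o p = 1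
  deg : ∀ χ ∈ I, χ ≠ o → 2 ≤ d χ
  congr3 : ∀ χ ∈ I, ∀ p, p ≠ 0 → (3 : ℤ) ∣ d χ - V χ p
  congr9 : ∀ χ ∈ I, (9 : ℤ) ∣ d χ + ∑ p ∈ Finset.univ.erase 0, V χ p
  sq : ∑ χ ∈ I, d χ * d χ = n
  degOrth : ∀ p, p ≠ 0 → ∑ χ ∈ I, d χ * V χ p = 0
  orth : ∀ p q, p ≠ 0 → q ≠ 0 → ∑ χ ∈ I, V χ p * V χ q = if R p q then 9 else 0
  classes : ∀ p q r, p ≠ 0 → q ≠ 0 → r ≠ 0 → ¬ (R p (-r) ∧ R q (-r)) →
    ∑ χ ∈ I, ((V χ p * V χ q * V χ r : ℤ) : ℚ) / d χ = 81 * count R p q r / n
  nonneg : ∀ p, p ≠ 0 → 0 ≤ ∑ χ ∈ I, ((V χ p * V χ p * V χ p : ℤ) : ℚ) / d χ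

theorem exists_int_value {x : G} (hx : orderOf x = 3) (hc : IsConj x x⁻¹) {χ : G → ℂ}
    (hχ : Cfsg.IsIrrCharacter G χ) {d : ℕ} (hd : χ 1 = d) : ∃ v : ℤ, χ x = v ∧ (3 : ℤ) ∣ (d : ℤ) - v := by
  obtain ⟨c, hcv⟩ := ColumnData.exists_count hx (IsIrrCharacter.isCharacter hχ)
  have huniv : (Finset.univ : Finset (ZMod 3)) = {0, 1, 2} := by decide
  have hsum : ∀ φ : ZMod 3 → ℂ, ∑ b, φ b = φ 0 + φ 1 + φ 2 := fun φ => by
    rw [huniv, Finset.sum_insert (by decide), Finset.sum_insert (by decide), Finset.sum_singleton, add_assoc]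
  have e0 := hcv 0
  have e1 := hcv 1
  have e2 := hcv 2
  rw [hsum, show (0 : ZMod 3).val = 0 from rfl, pow_zero, hd] at e0
  rw [hsum, show (1 : ZMod 3).val = 1 from rfl, pow_one] at e1
  rw [hsum, show (2 : ZMod 3).val = 2 from rfl] at e2
  simp only [mul_zero, zero_mul, mul_one, one_mul, AddChar.map_zero_eq_one] at e0 e1 e2
  rw [show (2 : ZMod 3) * 2 = 1 by decide] at e2
  have hx2 : x ^ 2 = x⁻¹ := eq_inv_of_mul_eq_one_left (by rw [← pow_succ, show 2 + 1 = orderOf x by rw [hx], pow_orderOf_eq_one])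
  rw [hx2, ← IsClassFunction.apply_eq_of_isConj (IsIrrCharacter.isClassFunction hχ) hc] at e2
  have hs : (1 : ℂ) + ZMod.stdAddChar (1 : ZMod 3) + ZMod.stdAddChar (2 : ZMod 3) = 0 := by
    have h := ColumnData.sum_stdAddChar (p := 3) (1 : ZMod 3)
    rw [hsum, if_neg (by decide)] at h
    simpa using h
  have hne : (ZMod.stdAddChar (1 : ZMod 3) : ℂ) ≠ ZMod.stdAddChar (2 : ZMod 3) := fun h =>
    absurd (ZMod.injective_stdAddChar h) (by decide)
  have h12 : ((c 1 : ℂ) - c 2) * (ZMod.stdAddChar (1 : ZMod 3) - ZMod.stdAddChar (2 : ZMod 3)) = 0 := by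
    linear_combination e2 - e1
  have heq : (c 1 : ℂ) = c 2 := sub_eq_zero.1 ((mul_eq_zero.1 h12).resolve_right (sub_ne_zero.2 hne))
  have heq' : c 1 = c 2 := by exact_mod_cast heq
  refine ⟨(c 0 : ℤ) - c 1, ?_, ?_⟩
  · push_cast
    rw [e1, ← heq]
    linear_combination (c 1 : ℂ) * hs
  · have : d = c 0 + c 1 + c 2 := by exact_mod_cast e0
    exact ⟨c 1, by omega⟩

namespace Setup

variable {S : Subgroup G} (h : Setup S)
include h

theorem card_class {s : G} (hs : s ∈ S) (h1 : s ≠ 1) :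
    (Nat.card {x : G // IsConj s x} : ℂ) = (Nat.card G : ℂ) / 9 := by
  rw [eq_div_iff (by norm_num : (9 : ℂ) ≠ 0)]
  have := card_conj_class_mul_card_centralizer s
  rw [h.card_centralizer hs h1] at this
  exact_mod_cast this

theorem exists_table [IsSimpleGroup G] [Fintype G] (hG : ¬ IsMulCommutative G)
    {f : ZMod 3 × ZMod 3 → G} {R : ZMod 3 × ZMod 3 → ZMod 3 × ZMod 3 → Prop} [DecidableRel R]
    (hf : Coords S f R) (hneg : ∀ p, p ≠ 0 → R p (-p)) :
    ∃ d V o, Table (Nat.card G) (irrFinset G) R d V o := by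
  classical
  have h0 : f 0 = 1 := by simpa [eq_comm] using hf.add 0 0
  have hne : ∀ p, p ≠ 0 → f p ≠ 1 := fun p hp e => hp (hf.inj (e.trans h0.symm))
  have hfneg : ∀ p, f (-p) = (f p)⁻¹ := fun p => eq_inv_of_mul_eq_one_left (by rw [← hf.add, neg_add_cancel, h0])
  have hfsub : ∀ p q, f (p - q) = f p * (f q)⁻¹ := fun p q => by rw [sub_eq_add_neg, hf.add, hfneg]
  have hdata : ∀ χ : G → ℂ, ∃ (d : ℤ) (V : ZMod 3 × ZMod 3 → ℤ), χ ∈ irrFinset G →
      χ 1 = d ∧ 1 ≤ d ∧ ∀ p, p ≠ 0 → χ (f p) = V p ∧ (3 : ℤ) ∣ d - V p := by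
    intro χ
    by_cases hm : χ ∈ irrFinset G
    swap
    · exact ⟨0, 0, fun e => absurd e hm⟩
    obtain ⟨d, hd0, hd⟩ := IsIrrCharacter.exists_degree (mem_irrFinset.1 hm)
    have hv : ∀ p, ∃ v : ℤ, p ≠ 0 → χ (f p) = v ∧ (3 : ℤ) ∣ (d : ℤ) - v := by
      intro p
      by_cases hp : p = 0
      · exact ⟨0, fun e => absurd hp e⟩
      obtain ⟨v, hv⟩ := exists_int_value (h.orderOf_eq (hf.mem p) (hne p hp))
        (by rw [← hfneg]; exact (hf.fusion p (-p) hp (neg_ne_zero.2 hp)).2 (hneg p hp)) (mem_irrFinset.1 hm) hd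
      exact ⟨v, fun _ => hv⟩
    choose V hV using hv
    exact ⟨d, V, fun _ => ⟨by rw [hd]; norm_cast, by exact_mod_cast hd0, hV⟩⟩
  choose d V hdV using hdata
  set o : G → ℂ := fun _ => 1 with ho
  have hom : o ∈ irrFinset G := mem_irrFinset.mpr isIrrCharacter_one
  have hval : ∀ χ ∈ irrFinset G, ∀ p, p ≠ 0 → χ (f p) = V χ p := fun χ hχ p hp => ((hdV χ hχ).2.2 p hp).1
  have hdeg : ∀ χ ∈ irrFinset G, χ 1 = d χ := fun χ hχ => (hdV χ hχ).1
  have hGne : (Nat.card G : ℂ) ≠ 0 := Nat.cast_ne_zero.2 Nat.card_pos.ne'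
  have hsum : ∀ p q r, p ≠ 0 → q ≠ 0 → r ≠ 0 →
      (Nat.card {x : G × G // IsConj (f p) x.1 ∧ IsConj (f q) x.2 ∧ x.1 * x.2 = f r} : ℂ) =
        (Nat.card G : ℂ) / 81 * ((∑ χ ∈ irrFinset G, ((V χ p * V χ q * V χ r : ℤ) : ℚ) / d χ : ℚ) : ℂ) := by
    intro p q r hp hq hr
    rw [card_class_products, h.card_class (hf.mem p) (hne p hp), h.card_class (hf.mem q) (hne q hq)]
    push_cast
    rw [show (Nat.card G : ℂ) / 9 * ((Nat.card G : ℂ) / 9) / (Nat.card G : ℂ) = (Nat.card G : ℂ) / 81 by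
      field_simp; ring]
    congr 1
    refine sum_congr rfl fun χ hχ => ?_
    rw [hval χ hχ p hp, hval χ hχ q hq, hval χ hχ r hr, hdeg χ hχ, map_intCast]
  refine ⟨d, V, o, ⟨⟨hom, ?_, fun p hp => ?_⟩, ?_, fun χ hχ p hp => ((hdV χ hχ).2.2 p hp).2, ?_, ?_, ?_, ?_, ?_, ?_⟩⟩
  · have := hdeg o hom
    simp only [ho] at this
    exact_mod_cast this.symm
  · have := hval o hom p hp
    simp only [ho] at this
    exact_mod_cast this.symm
  · intro χ hχ hne1
    have h1 := (hdV χ hχ).2.1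
    by_contra h2
    exact ColumnData.ne_one_of_simple hG (mem_irrFinset.1 hχ) hne1
      (by rw [hdeg χ hχ, show d χ = 1 by omega, Int.cast_one])
  · intro χ hχ
    obtain ⟨m, hm⟩ := IsCharacter.exists_classInner_eq_natCast'
      (IsCharacter.restrict (IsIrrCharacter.isCharacter (mem_irrFinset.1 hχ)) S) (isCharacter_one (G := S))
    rw [classInner_def] at hm
    refine ⟨m, ?_⟩
    have hbij : Function.Bijective fun p => (⟨f p, hf.mem p⟩ : S) :=
      ⟨fun p q e => hf.inj (congrArg Subtype.val e), fun s => by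
        obtain ⟨p, hp⟩ := hf.surj s s.2
        exact ⟨p, Subtype.ext hp⟩⟩
    simp only [map_one, mul_one] at hm
    rw [h.card, ← hbij.sum_comp, ← Finset.add_sum_erase _ _ (Finset.mem_univ (0 : ZMod 3 × ZMod 3))] at hm
    simp only [h0] at hm
    rw [hdeg χ hχ, sum_congr rfl fun p hp => hval χ hχ p (Finset.ne_of_mem_erase hp)] at hm
    apply Int.cast_injective (α := ℂ)
    push_cast at hm ⊢
    rw [← hm]; ring
  · have e := sum_degree_sq (G := G)
    rw [sum_congr rfl fun χ hχ => by rw [hdeg χ hχ, sq]] at e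
    exact_mod_cast e
  · intro p hp
    have e := sum_degree_mul_apply (f p)
    rw [if_neg (hne p hp), sum_congr rfl fun χ hχ => by rw [hdeg χ hχ, hval χ hχ p hp]] at e
    exact_mod_cast e
  · intro p q hp hq
    have e := sum_irr_mul_conj (f p) (f q)
    rw [sum_congr rfl fun χ hχ => by rw [hval χ hχ p hp, hval χ hχ q hq, map_intCast],
      h.card_centralizer (hf.mem p) (hne p hp)] at e
    simp only [hf.fusion p q hp hq] at e
    apply Int.cast_injective (α := ℂ)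
    push_cast
    rw [e]
    split_ifs <;> norm_num
  · intro p q r hp hq hr hno
    have hcard : Nat.card {x : G × G // IsConj (f p) x.1 ∧ IsConj (f q) x.2 ∧ x.1 * x.2 = f r} = count R p q r := by
      rw [count, ← Fintype.card_subtype, ← Nat.card_eq_fintype_card]
      refine (Nat.card_eq_of_bijective
        (fun a : {a : ZMod 3 × ZMod 3 // a ≠ 0 ∧ r - a ≠ 0 ∧ R p a ∧ R q (r - a)} =>
          (⟨(f a.1, f (r - a.1)), (hf.fusion _ _ hp a.2.1).2 a.2.2.2.1,
            (hf.fusion _ _ hq a.2.2.1).2 a.2.2.2.2, by rw [← hf.add, add_sub_cancel]⟩ :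
            {x : G × G // IsConj (f p) x.1 ∧ IsConj (f q) x.2 ∧ x.1 * x.2 = f r})) ?_).symm
      refine ⟨fun a b e => Subtype.ext (hf.inj (congrArg (fun z => z.1.1) e)), ?_⟩
      rintro ⟨⟨x, y⟩, hx, hy, hxy⟩
      simp only at hx hy hxy
      have hcube : ∀ s w : G, s ∈ S → IsConj s w → w ^ 3 = 1 := by
        intro s w hs hw
        obtain ⟨g, rfl⟩ := isConj_iff.1 hw
        rw [conj_pow, h.cube s hs]
        group
      rcases h.triangle (hcube _ x (hf.mem p) hx) (hcube _ y (hf.mem q) hy) (hf.mem r) (hne r hr) hxy with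
        ⟨hxS, -⟩ | ⟨hxc, hyc⟩
      · obtain ⟨a, rfl⟩ := hf.surj x hxS
        have ha : a ≠ 0 := fun e => hne p hp (isConj_one_left.1 (by rw [e, h0] at hx; exact hx))
        have hy' : y = f (r - a) := by
          rw [hfsub, h.comm _ (hf.mem r) _ (inv_mem (hf.mem a)), ← hxy, inv_mul_cancel_left]
        subst hy'
        have hra : r - a ≠ 0 := fun e => hne q hq (isConj_one_left.1 (by rw [e, h0] at hy; exact hy))
        exact ⟨⟨a, ha, hra, (hf.fusion _ _ hp ha).1 hx, (hf.fusion _ _ hq hra).1 hy⟩, rfl⟩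
      · refine absurd ⟨?_, ?_⟩ hno
        · refine (hf.fusion _ _ hp (neg_ne_zero.2 hr)).1 ?_
          rw [hfneg]; exact hx.trans hxc
        · refine (hf.fusion _ _ hq (neg_ne_zero.2 hr)).1 ?_
          rw [hfneg]; exact hy.trans hyc
    have e := hsum p q r hp hq hr
    rw [hcard] at e
    have e' : ((count R p q r : ℚ) : ℂ) = (((Nat.card G : ℚ) / 81 *
        ∑ χ ∈ irrFinset G, ((V χ p * V χ q * V χ r : ℤ) : ℚ) / d χ : ℚ) : ℂ) := by
      push_cast
      rw [e]; push_cast; ring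
    have e'' := Rat.cast_injective e'
    rw [eq_div_iff (Nat.cast_ne_zero.2 Nat.card_pos.ne'), e'']
    ring
  · intro p hp
    have e := hsum p p p hp hp hp
    set T : ℚ := ∑ χ ∈ irrFinset G, ((V χ p * V χ p * V χ p : ℤ) : ℚ) / d χ
    set m := Nat.card {x : G × G // IsConj (f p) x.1 ∧ IsConj (f p) x.2 ∧ x.1 * x.2 = f p}
    have e' : ((m : ℚ) : ℂ) = (((Nat.card G : ℚ) / 81 * T : ℚ) : ℂ) := by push_cast; exact e
    have e'' := Rat.cast_injective e'
    have hpos : (0 : ℚ) < (Nat.card G : ℚ) / 81 := div_pos (by exact_mod_cast Nat.card_pos) (by norm_num)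
    exact nonneg_of_mul_nonneg_right (e'' ▸ m.cast_nonneg) hpos

end Setup

end CfsgLib.ThreeNine
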