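import Cfsg.Agent.ThreeNine.Basic

/-!
# A strongly self-centralising subgroup of order nine: the conjugacy classes meeting it
-/

set_option autoImplicit false
set_option linter.style.haveILetI false
set_option linter.unusedSectionVars false

namespace CfsgLib.ThreeNine

variable {G : Type*} [Group G] [Finite G]

/-- Coordinates on `S` together with a description of fusion. -/
structure Coords (S : Subgroup G) (f : ZMod 3 × ZMod 3 → G) (R : ZMod 3 × ZMod 3 → ZMod 3 × ZMod 3 → Prop) :
    Prop where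
  mem : ∀ p, f p ∈ S
  add : ∀ p q, f (p + q) = f p * f q
  inj : Function.Injective f
  surj : ∀ s ∈ S, ∃ p, f p = s
  fusion : ∀ p q, p ≠ 0 → q ≠ 0 → (IsConj (f p) (f q) ↔ R p q)

/-- Two lines of `S` are fused (`N_G(S) / S` of order four). -/
def RelFour (p q : ZMod 3 × ZMod 3) : Prop := (p.1 = 0 ∨ p.2 = 0) ↔ (q.1 = 0 ∨ q.2 = 0)

/-- No two lines of `S` are fused (`N_G(S) / S` of order two). -/
def RelTwo (p q : ZMod 3 × ZMod 3) : Prop := q = p ∨ q = -p

instance (p q : ZMod 3 × ZMod 3) : Decidable (RelFour p q) := inferInstanceAs (Decidable (_ ↔ _))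

instance (p q : ZMod 3 × ZMod 3) : Decidable (RelTwo p q) := inferInstanceAs (Decidable (_ ∨ _))

namespace Setup

variable {S : Subgroup G} (h : Setup S)
include h

theorem orderOf_eq {s : G} (hs : s ∈ S) (h1 : s ≠ 1) : orderOf s = 3 :=
  orderOf_eq_prime (h.cube s hs) h1

theorem mem_zpowers_cases {u t : G} (hu : u ∈ S) (h1 : u ≠ 1) (ht : t ∈ Subgroup.zpowers u) :
    t = 1 ∨ t = u ∨ t = u⁻¹ := by
  classical
  rw [mem_zpowers_iff_mem_range_orderOf, h.orderOf_eq hu h1] at ht
  simp only [Finset.mem_image, Finset.mem_range] at ht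
  obtain ⟨k, hk, rfl⟩ := ht
  interval_cases k
  · exact Or.inl (pow_zero u)
  · exact Or.inr (Or.inl (pow_one u))
  · refine Or.inr (Or.inr (eq_inv_of_mul_eq_one_left ?_))
    rw [← pow_succ, h.cube u hu]

theorem card_conj_in {s : G} (hs : s ∈ S) (h1 : s ≠ 1) :
    Nat.card (Subgroup.normalizer (S : Set G)) = 9 * Nat.card {t : G // t ∈ S ∧ IsConj s t} := by
  set N := Subgroup.normalizer (S : Set G) with hN
  have hle : S ≤ N := Subgroup.le_normalizer
  have hmem : ∀ g ∈ N, g * s * g⁻¹ ∈ S := fun g hg => (Subgroup.mem_normalizer_iff.1 hg s).1 hs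
  have hfix : ∀ a b : N, (a : G) * s * (a : G)⁻¹ = (b : G) * s * (b : G)⁻¹ ↔ (a : G)⁻¹ * b ∈ S := by
    intro a b
    constructor
    · intro e
      refine h.mem_of_commute hs h1 ?_
      calc (a : G)⁻¹ * b * s = (a : G)⁻¹ * ((b : G) * s * (b : G)⁻¹) * b := by group
        _ = (a : G)⁻¹ * ((a : G) * s * (a : G)⁻¹) * b := by rw [e]
        _ = _ := by group
    · intro e
      have := h.comm _ e s hs
      calc (a : G) * s * (a : G)⁻¹ = (a : G) * (s * ((a : G)⁻¹ * b)) * (b : G)⁻¹ := by group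
        _ = (a : G) * (((a : G)⁻¹ * b) * s) * (b : G)⁻¹ := by rw [this]
        _ = _ := by group
  let F : N ⧸ S.subgroupOf N → {t : G // t ∈ S ∧ IsConj s t} :=
    fun q => Quotient.liftOn' q (fun g => ⟨(g : G) * s * (g : G)⁻¹, hmem _ g.2, isConj_iff.2 ⟨g, rfl⟩⟩)
      (fun a b e => Subtype.ext ((hfix a b).2 (by
        have := QuotientGroup.leftRel_apply.1 e
        simpa [Subgroup.mem_subgroupOf] using this)))
  have hbij : Function.Bijective F := by
    constructor
    · intro q r
      refine QuotientGroup.induction_on q fun a => QuotientGroup.induction_on r fun b e => ?_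
      refine QuotientGroup.eq.2 ?_
      rw [Subgroup.mem_subgroupOf]
      simpa using (hfix a b).1 (congrArg Subtype.val e)
    · rintro ⟨t, htS, htc⟩
      obtain ⟨g, hg⟩ := isConj_iff.1 htc
      exact ⟨QuotientGroup.mk (⟨g, h.mem_normalizer_of_conj hs h1 (hg ▸ htS)⟩ : N), Subtype.ext hg⟩
  rw [← Nat.card_eq_of_bijective F hbij, ← h.card, ← Nat.card_congr (Subgroup.subgroupOfEquivOfLe hle).toEquiv,
    mul_comm]
  exact Subgroup.card_eq_card_quotient_mul_card_subgroup _

theorem exists_coords {u v : G} (hu : u ∈ S) (hv : v ∈ S) (hu1 : u ≠ 1) (hvu : v ∉ Subgroup.zpowers u) :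
    ∃ f : ZMod 3 × ZMod 3 → G, f (1, 0) = u ∧ f (0, 1) = v ∧ (∀ p, f p ∈ S) ∧
      (∀ p q, f (p + q) = f p * f q) ∧ Function.Injective f ∧ ∀ s ∈ S, ∃ p, f p = s := by
  have hord := h.orderOf_eq hu hu1
  have hv1 : v ≠ 1 := fun e => hvu (e ▸ one_mem _)
  have hpow : ∀ w ∈ S, ∀ i j : ZMod 3, w ^ (i + j).val = w ^ i.val * w ^ j.val := by
    intro w hw i j
    rw [← pow_add, pow_eq_pow_iff_modEq]
    refine Nat.ModEq.of_dvd (orderOf_dvd_of_pow_eq_one (h.cube w hw)) ?_
    rw [ZMod.val_add]
    exact Nat.mod_modEq _ _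
  set f : ZMod 3 × ZMod 3 → G := fun p => u ^ p.1.val * v ^ p.2.val with hf
  have hmem : ∀ p, f p ∈ S := fun p => mul_mem (pow_mem hu _) (pow_mem hv _)
  have hadd : ∀ p q, f (p + q) = f p * f q := by
    intro p q
    simp only [hf, Prod.fst_add, Prod.snd_add, hpow u hu, hpow v hv]
    rw [mul_assoc, mul_assoc, ← mul_assoc (u ^ q.1.val), h.comm _ (pow_mem hu _) _ (pow_mem hv _),
      mul_assoc]
  have hker : ∀ p, f p = 1 → p = 0 := by
    rintro ⟨i, j⟩ e
    have hj : j = 0 := by
      by_contra hj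
      have h2 : v ^ j.val ∈ Subgroup.zpowers u := by
        rw [eq_inv_of_mul_eq_one_right e]
        exact inv_mem (Subgroup.npow_mem_zpowers u _)
      have h3 : j.val = 1 ∨ j.val = 2 := by
        exact (show ∀ j : ZMod 3, j ≠ 0 → j.val = 1 ∨ j.val = 2 by decide) j hj
      rcases h3 with h3 | h3 <;> rw [h3] at h2
      · exact hvu (by simpa using h2)
      · have h4 := Subgroup.mul_mem _ h2 h2
        rw [← pow_add, show (2 + 2 : ℕ) = 3 + 1 from rfl, pow_succ, h.cube v hv, one_mul] at h4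
        exact hvu h4
    subst hj
    simp only [hf, ZMod.val_zero, pow_zero, mul_one] at e
    have h5 := orderOf_dvd_of_pow_eq_one e
    rw [hord] at h5
    have h6 : i.val = 0 := Nat.eq_zero_of_dvd_of_lt h5 (ZMod.val_lt i)
    rw [(ZMod.val_eq_zero i).1 h6]; rfl
  have hinj : Function.Injective f := by
    intro p q e
    have := hadd (p - q) q
    rw [sub_add_cancel, e, eq_comm, mul_eq_right] at this
    exact sub_eq_zero.1 (hker _ this)
  refine ⟨f, ?_, ?_, hmem, hadd, hinj, ?_⟩
  · simp [hf, ZMod.val_one]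
  · simp [hf, ZMod.val_one]
  · intro s hs
    let F : ZMod 3 × ZMod 3 → S := fun p => ⟨f p, hmem p⟩
    have hF : Function.Injective F := fun p q e => hinj (congrArg Subtype.val e)
    have hb : Function.Bijective F :=
      (Nat.bijective_iff_injective_and_card F).2 ⟨hF, by rw [h.card]; simp⟩
    obtain ⟨p, hp⟩ := hb.2 ⟨s, hs⟩
    exact ⟨p, congrArg Subtype.val hp⟩

/-- The two possibilities for fusion in `S`. -/
theorem exists_fusion [IsSimpleGroup G] (hG : ¬ IsMulCommutative G) (P : Sylow 3 G) (hSP : S = P)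
    (hclasses : ∃ a b : G, orderOf a = 3 ∧ orderOf b = 3 ∧ ∀ g : G, g * a * g⁻¹ ≠ b) :
    (∃ f, Coords S f RelTwo) ∨ (Nat.card (Subgroup.normalizer (S : Set G)) = 36 ∧ ∃ f, Coords S f RelFour) := by
  classical
  haveI := Fintype.ofFinite G
  set N := Subgroup.normalizer (S : Set G) with hN
  haveI : Nontrivial S := Finite.one_lt_card_iff_nontrivial.1 (by rw [h.card]; norm_num)
  obtain ⟨⟨u, hu⟩, hu1'⟩ := exists_ne (1 : S)
  have hu1 : u ≠ 1 := fun e => hu1' (Subtype.ext e)
  set e := Nat.card {t : G // t ∈ S ∧ IsConj u t} with he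
  have hNe : Nat.card N = 9 * e := h.card_conj_in hu hu1
  have hcard : ∀ s ∈ S, s ≠ 1 → Nat.card {t : G // t ∈ S ∧ IsConj s t} = e := fun s hs h1 =>
    Nat.eq_of_mul_eq_mul_left (by norm_num) ((h.card_conj_in hs h1).symm.trans hNe)
  set U : Finset G := Finset.univ.filter fun t => t ∈ S ∧ t ≠ 1 with hU
  have hU8 : U.card = 8 := by
    have h9 : (Finset.univ.filter fun t => t ∈ S).card = 9 := by
      rw [← h.card, Nat.card_eq_fintype_card, Fintype.card_subtype]
    have : U = (Finset.univ.filter fun t => t ∈ S).erase 1 := by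
      ext t; simp [hU, and_comm]
    rw [this, Finset.card_erase_of_mem (by simp), h9]
  have hfib : ∀ s ∈ U, (U.filter fun t => ConjClasses.mk t = ConjClasses.mk s).card = e := by
    intro s hs
    simp only [hU, Finset.mem_filter, Finset.mem_univ, true_and] at hs
    rw [← hcard s hs.1 hs.2, Nat.card_eq_fintype_card, Fintype.card_subtype]
    congr 1
    ext t
    simp only [hU, Finset.mem_filter, Finset.mem_univ, true_and, ConjClasses.mk_eq_mk_iff_isConj]
    constructor
    · rintro ⟨⟨h1, -⟩, h3⟩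
      exact ⟨h1, h3.symm⟩
    · rintro ⟨h1, h2⟩
      exact ⟨⟨h1, fun et => hs.2 (isConj_one_left.1 (et ▸ h2))⟩, h2.symm⟩
  have hsum : 8 = (U.image ConjClasses.mk).card * e := by
    rw [← hU8, Finset.card_eq_sum_card_fiberwise (f := ConjClasses.mk) (t := U.image ConjClasses.mk)
      (fun x hx => Finset.mem_image_of_mem _ hx)]
    rw [Finset.sum_congr rfl (g := fun _ => e) ?_, Finset.sum_const, smul_eq_mul]
    intro c hc
    obtain ⟨s, hs, rfl⟩ := Finset.mem_image.1 hc
    exact hfib s hs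
  have hk : 2 ≤ (U.image ConjClasses.mk).card := by
    obtain ⟨a, b, ha, hb, hab⟩ := hclasses
    have key : ∀ w : G, orderOf w = 3 → ∃ t ∈ U, IsConj w t := by
      intro w hw
      have hp : IsPGroup 3 (Subgroup.zpowers w) := IsPGroup.of_card (n := 1) (by rw [Nat.card_zpowers, hw, pow_one])
      obtain ⟨Q, hQ⟩ := hp.exists_le_sylow
      obtain ⟨g, rfl⟩ := MulAction.exists_smul_eq G P Q
      have hw' : w ∈ ((g • P : Sylow 3 G) : Subgroup G) := hQ (Subgroup.mem_zpowers w)
      rw [Sylow.coe_subgroup_smul, Subgroup.mem_pointwise_smul_iff_inv_smul_mem] at hw'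
      refine ⟨g⁻¹ * w * g, ?_, isConj_iff.2 ⟨g⁻¹, by group⟩⟩
      simp only [hU, Finset.mem_filter, Finset.mem_univ, true_and]
      refine ⟨hSP ▸ (by simpa [MulAut.smul_def, MulAut.conj_inv_apply] using hw'), fun et => ?_⟩
      have : w = 1 := by
        calc w = g * (g⁻¹ * w * g) * g⁻¹ := by group
          _ = 1 := by rw [et]; group
      rw [this, orderOf_one] at hw
      omega
    obtain ⟨ta, hta, hca⟩ := key a ha
    obtain ⟨tb, htb, hcb⟩ := key b hb
    refine Finset.one_lt_card.2 ⟨_, Finset.mem_image_of_mem _ hta, _, Finset.mem_image_of_mem _ htb, fun ee => ?_⟩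
    obtain ⟨g, hg⟩ := isConj_iff.1 ((hca.trans (ConjClasses.mk_eq_mk_iff_isConj.1 ee)).trans hcb.symm)
    exact hab g hg
  have he1 : e ≠ 1 := by
    intro e1
    have hNS : S = N := Subgroup.eq_of_le_of_card_ge Subgroup.le_normalizer (by rw [hNe, e1, h.card])
    have hP : Subgroup.normalizer ((P : Subgroup G) : Set G) ≤ Subgroup.centralizer ((P : Subgroup G) : Set G) := by
      rw [← hSP, ← hN, ← hNS]
      intro x hx
      exact Subgroup.mem_centralizer_iff.2 fun y hy => h.comm y hy x hx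
    have hc := MonoidHom.ker_transferSylow_isComplement' P hP
    rcases IsSimpleGroup.eq_bot_or_eq_top_of_normal (MonoidHom.transferSylow P hP).ker inferInstance with hb | ht
    · rw [hb, Subgroup.isComplement'_bot_left] at hc
      exact hG ⟨⟨fun x y => h.comm x (by rw [hSP, hc]; trivial) y (by rw [hSP, hc]; trivial)⟩⟩
    · rw [ht, Subgroup.isComplement'_top_left, ← hSP] at hc
      exact hu1 (Subgroup.mem_bot.1 (hc ▸ hu))
  have heven : Even e := by
    have hd : e ∣ 2 ^ 3 := Dvd.intro_left _ (hsum.symm.trans rfl)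
    obtain ⟨k, -, hk'⟩ := (Nat.dvd_prime_pow Nat.prime_two).1 hd
    rcases Nat.eq_zero_or_pos k with hk0 | hk0
    · exact absurd (by rw [hk', hk0, pow_zero]) he1
    · exact hk' ▸ (Nat.even_pow.2 ⟨even_two, hk0.ne'⟩)
  have hinv : ∀ s ∈ S, s ≠ 1 → IsConj s s⁻¹ := by
    haveI : Fact (Nat.Prime 2) := ⟨Nat.prime_two⟩
    obtain ⟨⟨w, hwN⟩, hw⟩ := exists_prime_orderOf_dvd_card' (G := N) 2 (hNe ▸ dvd_mul_of_dvd_right heven.two_dvd 9)
    rw [Subgroup.orderOf_mk] at hw
    have hww : w * w = 1 := by rw [← sq, ← hw, pow_orderOf_eq_one]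
    have hwS : w ∉ S := fun hm => by
      have h2 := orderOf_dvd_of_pow_eq_one (h.cube w hm)
      rw [hw] at h2
      omega
    intro s hs h1
    have hs' : w * s * w⁻¹ ∈ S := (Subgroup.mem_normalizer_iff.1 hwN s).1 hs
    have hz : w * (s * (w * s * w⁻¹)) = s * (w * s * w⁻¹) * w := by
      calc w * (s * (w * s * w⁻¹)) = w * s * w⁻¹ * ((w * w) * s * (w * w)⁻¹) * w := by group
        _ = w * s * w⁻¹ * s * w := by rw [hww]; group
        _ = _ := by rw [h.comm _ hs' _ hs]
    have hz1 : s * (w * s * w⁻¹) = 1 := by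
      by_contra hne
      exact hwS (h.mem_of_commute (mul_mem hs hs') hne hz)
    exact isConj_iff.2 ⟨w, eq_inv_of_mul_eq_one_right hz1⟩
  have hinv2 : ∀ s ∈ S, s ≠ 1 → s ≠ s⁻¹ := fun s hs h1 ee => by
    have h2 : orderOf s ∣ 2 := orderOf_dvd_of_pow_eq_one (by
      rw [sq]
      nth_rewrite 2 [ee]
      exact mul_inv_cancel s)
    rw [h.orderOf_eq hs h1] at h2
    omega
  have hclass : ∀ s ∈ S, s ≠ 1 → ∀ T : Finset G, (∀ t ∈ T, t ∈ S ∧ IsConj s t) → T.card = e →
      ∀ t ∈ S, IsConj s t → t ∈ T := by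
    intro s hs h1 T hT hTc t ht hst
    have heq : T = Finset.univ.filter fun x => x ∈ S ∧ IsConj s x := by
      refine Finset.eq_of_subset_of_card_le (fun x hx => by simpa using hT x hx) (le_of_eq ?_)
      rw [hTc, ← hcard s hs h1, Nat.card_eq_fintype_card, Fintype.card_subtype]
    rw [heq]
    exact Finset.mem_filter.2 ⟨Finset.mem_univ _, ht, hst⟩
  obtain ⟨k, hk'⟩ : ∃ k, k = (U.image ConjClasses.mk).card := ⟨_, rfl⟩
  rw [← hk'] at hsum hk
  have he24 : e = 2 ∨ e = 4 := by
    obtain ⟨j, hj⟩ := heven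
    have : e ≤ 4 := by nlinarith
    rcases (show e = 0 ∨ e = 2 ∨ e = 4 by omega) with e0 | e2 | e4
    · rw [e0] at hsum; omega
    · exact Or.inl e2
    · exact Or.inr e4
  rcases he24 with e2 | e4
  · left
    obtain ⟨v, hv, hvu⟩ : ∃ v ∈ S, v ∉ Subgroup.zpowers u := by
      by_contra hno
      push Not at hno
      have := Nat.le_of_dvd (by rw [Nat.card_zpowers, h.orderOf_eq hu hu1]; norm_num)
        (Subgroup.card_dvd_of_le (show S ≤ Subgroup.zpowers u from hno))
      rw [h.card, Nat.card_zpowers, h.orderOf_eq hu hu1] at this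
      omega
    obtain ⟨f, -, -, hmem, hadd, hinj, hsurj⟩ := h.exists_coords hu hv hu1 hvu
    refine ⟨f, hmem, hadd, hinj, hsurj, fun p q hp hq => ?_⟩
    have h0 : f 0 = 1 := by simpa [eq_comm] using hadd 0 0
    have hp1 : f p ≠ 1 := fun ee => hp (hinj (ee.trans h0.symm))
    have hneg : f (-p) = (f p)⁻¹ := eq_inv_of_mul_eq_one_left (by rw [← hadd, neg_add_cancel, h0])
    constructor
    · intro hc
      have hm := hclass (f p) (hmem p) hp1 {f p, (f p)⁻¹} (fun t ht => by
        rcases Finset.mem_insert.1 ht with rfl | ht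
        · exact ⟨hmem p, IsConj.refl _⟩
        · rw [Finset.mem_singleton.1 ht]
          exact ⟨inv_mem (hmem p), hinv _ (hmem p) hp1⟩) (by rw [Finset.card_pair (hinv2 _ (hmem p) hp1), e2])
        (f q) (hmem q) hc
      rcases Finset.mem_insert.1 hm with hm | hm
      · exact Or.inl (hinj hm)
      · exact Or.inr (hinj ((Finset.mem_singleton.1 hm).trans hneg.symm))
    · rintro (rfl | rfl)
      · exact IsConj.refl _
      · rw [hneg]
        exact hinv _ (hmem p) hp1
  · right
    refine ⟨by rw [hNe, e4], ?_⟩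
    obtain ⟨v, hv, hvc, hvu⟩ : ∃ v ∈ S, IsConj u v ∧ v ∉ Subgroup.zpowers u := by
      by_contra hno
      push Not at hno
      have h2 : (Finset.univ.filter fun x => x ∈ S ∧ IsConj u x) ⊆ ({u, u⁻¹} : Finset G) := by
        intro x hx
        simp only [Finset.mem_filter, Finset.mem_univ, true_and] at hx
        rcases h.mem_zpowers_cases hu hu1 (hno x hx.1 hx.2) with rfl | rfl | rfl
        · exact absurd (isConj_one_left.1 hx.2) hu1
        all_goals simp
      have h3 := (Finset.card_le_card h2).trans Finset.card_le_two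
      rw [← Fintype.card_subtype, ← Nat.card_eq_fintype_card, ← he, e4] at h3
      omega
    obtain ⟨f, hfu, hfv, hmem, hadd, hinj, hsurj⟩ := h.exists_coords hu hv hu1 hvu
    refine ⟨f, hmem, hadd, hinj, hsurj, ?_⟩
    have h0 : f 0 = 1 := by simpa [eq_comm] using hadd 0 0
    have hne : ∀ p, p ≠ 0 → f p ≠ 1 := fun p hp ee => hp (hinj (ee.trans h0.symm))
    have hneg : ∀ p, f (-p) = (f p)⁻¹ := fun p => eq_inv_of_mul_eq_one_left (by rw [← hadd, neg_add_cancel, h0])
    have hu1' : f (1, 0) ≠ 1 := hne _ (by decide)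
    have hv1' : f (0, 1) ≠ 1 := hne _ (by decide)
    set T : Finset (ZMod 3 × ZMod 3) := {(1, 0), (0, 1), -(1, 0), -(0, 1)} with hT
    have hTu : ∀ p ∈ T, IsConj (f (1, 0)) (f p) := by
      intro p hp
      simp only [hT, Finset.mem_insert, Finset.mem_singleton] at hp
      rcases hp with rfl | rfl | rfl | rfl
      · exact IsConj.refl _
      · rwa [hfu, hfv]
      · rw [hneg]; exact hinv _ (hmem _) hu1'
      · rw [hneg]
        refine IsConj.trans ?_ (hinv _ (hmem _) hv1')
        rwa [hfu, hfv]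
    have hTc : ∀ p, p ≠ 0 → (IsConj (f (1, 0)) (f p) ↔ (p.1 = 0 ∨ p.2 = 0)) := by
      intro p hp
      constructor
      · intro hc
        have hm := hclass (f (1, 0)) (hmem _) hu1' (T.image f) (fun t ht => by
          obtain ⟨q, hq, rfl⟩ := Finset.mem_image.1 ht
          exact ⟨hmem q, hTu q hq⟩) (by rw [Finset.card_image_of_injective _ hinj, e4, hT]; decide) (f p) (hmem p) hc
        obtain ⟨q, hq, hqp⟩ := Finset.mem_image.1 hm
        rw [hinj hqp] at hq
        rw [hT] at hq
        exact (show ∀ p : ZMod 3 × ZMod 3, p ∈ ({(1, 0), (0, 1), -(1, 0), -(0, 1)} : Finset (ZMod 3 × ZMod 3)) →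
          p.1 = 0 ∨ p.2 = 0 by decide) p hq
      · intro hc
        apply hTu
        revert hc; rw [hT]; revert hp p; decide
    intro p q hp hq
    unfold RelFour
    by_cases hpT : p.1 = 0 ∨ p.2 = 0
    · simp only [hpT, true_iff]
      exact ⟨fun hc => (hTc q hq).1 (((hTc p hp).2 hpT).trans hc), fun hc => ((hTc p hp).2 hpT).symm.trans ((hTc q hq).2 hc)⟩
    · simp only [hpT, false_iff]
      refine ⟨fun hc hqT => hpT ((hTc p hp).1 (((hTc q hq).2 hqT).trans hc.symm)), fun hqT => ?_⟩
      -- both lie in the four elements off the class of `f (1, 0)`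
      set T' : Finset (ZMod 3 × ZMod 3) := {(1, 1), (1, -1), (-1, 1), (-1, -1)} with hT'
      have hsub : (Finset.univ.filter fun x => x ∈ S ∧ IsConj (f p) x) ⊆ T'.image f := by
        intro x hx
        simp only [Finset.mem_filter, Finset.mem_univ, true_and] at hx
        obtain ⟨r, rfl⟩ := hsurj x hx.1
        refine Finset.mem_image_of_mem f ?_
        have hr : r ≠ 0 := fun e0 => hne p hp (isConj_one_left.1 (by rw [e0, h0] at hx; exact hx.2))
        have hrT : ¬ (r.1 = 0 ∨ r.2 = 0) := fun hh => hpT ((hTc p hp).1 (((hTc r hr).2 hh).trans hx.2.symm))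
        revert hrT; rw [hT']; clear hx hr; revert r; decide
      have heq := Finset.eq_of_subset_of_card_le hsub (by
        rw [← Fintype.card_subtype, ← Nat.card_eq_fintype_card, hcard (f p) (hmem p) (hne p hp), e4]
        exact Finset.card_image_le.trans (by rw [hT']; decide))
      have hm : f q ∈ T'.image f := Finset.mem_image_of_mem f (by
        revert hqT; rw [hT']; clear hq; revert q; decide)
      rw [← heq] at hm
      exact (Finset.mem_filter.1 hm).2.2

end Setup

end CfsgLib.ThreeNine
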