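import Cfsg.Agent.ThreeNine.Main
import Cfsg.Agent.SmallSylow.KleinNine
import Cfsg.Agent.Recog3222.Six
import Cfsg.Agent.Solvable.CoprimeAbelian
import Cfsg.Agent.Solvable.Basics
import Cfsg.Agent.ExtPrim.MinNormal
import Mathlib.GroupTheory.SpecificGroups.Dihedral
import Mathlib.GroupTheory.Transfer
import Mathlib.GroupTheory.SpecificGroups.KleinFour

/-!
# A self-centralising Sylow 3-subgroup of order nine with dihedral automiser of order eight

The group has the subgroup as a normal subgroup or is the symmetric group of degree six, granted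
that it is not simple.
-/

set_option autoImplicit false
set_option linter.style.haveILetI false
set_option linter.unusedSectionVars false
set_option synthInstance.maxSize 4000

namespace CfsgLib.ThreeNineSix

open Subgroup

universe u

/-- The dihedral group of order eight. -/
abbrev D8 := DihedralGroup 4

theorem d8_sq_comm : ∀ b c : D8, c * (b * b) = b * b * c := by decide +kernel

theorem d8_sq : ∃ b : D8, b * b ≠ 1 := by decide +kernel

theorem d8_four : ∀ b : D8, b * b * (b * b) = 1 := by decide +kernel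

theorem d8_invols : ∃ a b : D8, a ≠ 1 ∧ b ≠ 1 ∧ a ≠ b ∧ a * a = 1 ∧ b * b = 1 := by decide +kernel

theorem d8_cyclic : ∀ b : D8, b * b ≠ 1 → ∀ k : Fin 4,
    b ^ (k : ℕ) * b ^ (k : ℕ) ≠ 1 ∨ ∀ c : D8, c * b ^ (k : ℕ) = b ^ (k : ℕ) * c := by decide +kernel

theorem card_d8 : Nat.card D8 = 8 := by rw [Nat.card_eq_fintype_card]; rfl

/-- The hypotheses. -/
structure Hyp (G : Type u) [Group G] where
  P : Sylow 3 G
  card : Nat.card (P : Subgroup G) = 9
  cent : centralizer ((P : Subgroup G) : Set G) = P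
  π : ↥(normalizer ((P : Subgroup G) : Set G)) →* D8
  π_surj : Function.Surjective π
  π_ker : π.ker = (P : Subgroup G).subgroupOf (normalizer ((P : Subgroup G) : Set G))
  loc : ∀ x ∈ (P : Subgroup G), x ≠ 1 →
    centralizer ({x} : Set G) ≤ normalizer ((P : Subgroup G) : Set G)

namespace Hyp

variable {G : Type u} [Group G] [Finite G] (H : Hyp G)

/-- The Sylow subgroup. -/
abbrev S : Subgroup G := (H.P : Subgroup G)

/-- Its normalizer. -/
abbrev N : Subgroup G := normalizer ((H.P : Subgroup G) : Set G)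

theorem cardS : Nat.card H.S = 9 := H.card

theorem centS : centralizer (H.S : Set G) = H.S := H.cent

theorem pgroupS : IsPGroup 3 H.S := H.P.2

theorem comm {x y : G} (hx : x ∈ H.S) (hy : y ∈ H.S) : x * y = y * x := by
  haveI : Fact (Nat.Prime 3) := ⟨Nat.prime_three⟩
  exact congrArg Subtype.val
    (IsPGroup.commutative_of_card_eq_prime_sq (p := 3) (G := H.S) H.cardS (⟨x, hx⟩) ⟨y, hy⟩)

theorem π_eq_one {g : G} (hg : g ∈ H.N) : H.π ⟨g, hg⟩ = 1 ↔ g ∈ H.S := by
  rw [← MonoidHom.mem_ker, H.π_ker, mem_subgroupOf]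

theorem card_N : Nat.card H.N = 72 := by
  have h := card_mul_index H.π.ker
  rw [index_ker, MonoidHom.range_eq_top.2 H.π_surj, card_top, card_d8, H.π_ker,
    Nat.card_congr (subgroupOfEquivOfLe le_normalizer).toEquiv, H.cardS] at h
  exact h.symm

theorem mem_S_of_sq_cube {g : G} (hg : g ∈ H.N) {k : ℕ} (hk : Odd k)
    (h : ∀ x ∈ H.S, g ^ k * x * (g ^ k)⁻¹ = x) : g ∈ H.S := by
  have hgk : g ^ k ∈ H.S := by
    rw [← H.centS, mem_centralizer_iff]
    exact fun x hx => (mul_inv_eq_iff_eq_mul.1 (h x hx)).symm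
  rw [← H.π_eq_one hg, ← orderOf_eq_one_iff]
  refine Nat.eq_one_of_dvd_coprimes (a := 8) (b := k) ?_ ?_ ?_
  · rw [show (8 : ℕ) = 2 ^ 3 by norm_num]
    exact (Nat.prime_two.coprime_iff_not_dvd.2 (Nat.not_even_iff_odd.2 hk ∘ even_iff_two_dvd.2)).pow_left 3
  · rw [← card_d8]; exact orderOf_dvd_natCard _
  · refine orderOf_dvd_of_pow_eq_one ?_
    rw [← map_pow]
    exact (H.π_eq_one (H.N.pow_mem hg k)).2 hgk

theorem cube {x : G} (hx : x ∈ H.S) : x ^ 3 = 1 := by
  classical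
  haveI : Fact (Nat.Prime 3) := ⟨Nat.prime_three⟩
  by_contra hx3
  have hx9 : orderOf x = 3 ^ (1 + 1) := by
    refine orderOf_eq_prime_pow (by simpa using hx3) ?_
    have := pow_card_eq_one' (x := (⟨x, hx⟩ : H.S))
    rw [H.cardS] at this
    exact congrArg Subtype.val this
  have hgen : zpowers x = H.S := eq_of_le_of_card_ge (zpowers_le.2 hx) (by
    rw [H.cardS, Nat.card_zpowers, hx9]; norm_num)
  obtain ⟨b, hb⟩ := d8_sq
  obtain ⟨⟨g, hg⟩, rfl⟩ := H.π_surj b
  have hS := (mem_normalizer_iff.1 hg x).1 hx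
  obtain ⟨k, hk⟩ := mem_powers_iff_mem_zpowers.2 (hgen.symm ▸ hS : g * x * g⁻¹ ∈ zpowers x)
  simp only at hk
  have hiter : ∀ m : ℕ, g ^ m * x * (g ^ m)⁻¹ = x ^ (k ^ m) := by
    intro m
    induction m with
    | zero => simp
    | succ m ih =>
      calc g ^ (m + 1) * x * (g ^ (m + 1))⁻¹ = g * (g ^ m * x * (g ^ m)⁻¹) * g⁻¹ := by
            rw [pow_succ']; group
        _ = (g * x * g⁻¹) ^ (k ^ m) := by rw [ih, conj_pow]
        _ = _ := by rw [← hk, ← pow_mul, ← pow_succ']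
  have hk3 : k % 3 ≠ 0 := by
    intro h0
    have h3 : (g * x * g⁻¹) ^ 3 = 1 := by
      rw [← hk, ← pow_mul, ← orderOf_dvd_iff_pow_eq_one, hx9]
      rw [show (3 : ℕ) ^ (1 + 1) = 3 * 3 by norm_num]
      exact Nat.mul_dvd_mul_right (Nat.dvd_of_mod_eq_zero h0) 3
    rw [conj_pow] at h3
    exact hx3 (conj_eq_one_iff.1 h3)
  have h6 : k ^ 6 % 9 = 1 := by
    rw [Nat.pow_mod]
    have key : ∀ r < 9, r % 3 ≠ 0 → r ^ 6 % 9 = 1 := by decide
    exact key _ (Nat.mod_lt _ (by norm_num)) (by omega)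
  have hfix : ∀ y ∈ H.S, (g * g) ^ 3 * y * ((g * g) ^ 3)⁻¹ = y := by
    intro y hy
    rw [← hgen] at hy
    obtain ⟨j, rfl⟩ := hy
    simp only
    rw [← conj_zpow, ← sq, ← pow_mul, hiter, show 2 * 3 = 6 from rfl, ← pow_mod_orderOf, hx9,
      show (3 : ℕ) ^ (1 + 1) = 9 by norm_num, h6, pow_one]
  have := H.mem_S_of_sq_cube (H.N.mul_mem hg hg) (by decide : Odd 3) hfix
  rw [← H.π_eq_one (H.N.mul_mem hg hg)] at this
  apply hb
  rw [← map_mul]
  exact this

theorem isElementaryAbelian : Cfsg.IsElementaryAbelian 3 H.S :=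
  ⟨⟨⟨fun a b => Subtype.ext (H.comm a.2 b.2)⟩⟩, fun _ hx => H.cube hx⟩

theorem orderOf_eq_three {x : G} (hx : x ∈ H.S) (h1 : x ≠ 1) : orderOf x = 3 := by
  haveI : Fact (Nat.Prime 3) := ⟨Nat.prime_three⟩
  exact orderOf_eq_prime (H.cube hx) h1

theorem not_le_zpowers (x : G) : ¬ H.S ≤ zpowers x ∨ orderOf x ≠ 3 := by
  by_cases h : orderOf x = 3
  · left
    intro hle
    have := card_dvd_of_le hle
    rw [H.cardS, Nat.card_zpowers, h] at this
    norm_num at this
  · exact Or.inr h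

/-- The normalizer fixes no line. -/
theorem no_line {w : G} (hw : w ∈ H.S) (hw1 : w ≠ 1)
    (hinv : ∀ g ∈ H.N, g * w * g⁻¹ ∈ zpowers w) : False := by
  classical
  haveI : Fact (Nat.Prime 3) := ⟨Nat.prime_three⟩
  obtain ⟨x, hx, hxw⟩ : ∃ x ∈ H.S, x ∉ zpowers w := by
    by_contra hcon
    push Not at hcon
    exact (H.not_le_zpowers w).elim (fun h => h hcon) (fun h => h (H.orderOf_eq_three hw hw1))
  have hw3 : w ^ 3 = 1 := H.cube hw
  have hx3 : x ^ 3 = 1 := H.cube hx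
  have hcases : ∀ {z : G}, z ∈ zpowers w → z = 1 ∨ z = w ∨ z = w⁻¹ := by
    rintro _ ⟨k, rfl⟩
    have hk : w ^ k = w ^ (k % 3) := by
      conv_lhs => rw [← Int.mul_ediv_add_emod k 3, zpow_add, zpow_mul, zpow_ofNat, hw3, one_zpow, one_mul]
    simp only
    rw [hk]
    have h0 := Int.emod_nonneg k (by norm_num : (3 : ℤ) ≠ 0)
    have h3 := Int.emod_lt_of_pos k (by norm_num : (0 : ℤ) < 3)
    interval_cases hh : k % 3
    · exact Or.inl (zpow_zero w)
    · exact Or.inr (Or.inl (zpow_one w))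
    · right; right
      rw [show ((2 : ℤ)) = 3 + (-1) by norm_num, zpow_add, zpow_ofNat, hw3, one_mul, zpow_neg_one]
  -- the cosets of the line
  let f : Fin 3 × Fin 3 → H.S := fun p => ⟨w ^ (p.1 : ℕ) * x ^ (p.2 : ℕ), mul_mem (pow_mem hw _) (pow_mem hx _)⟩
  have hf : Function.Bijective f := by
    refine Function.Injective.bijective_of_nat_card_le ?_ (by rw [H.cardS]; simp)
    rintro ⟨i, j⟩ ⟨i', j'⟩ h
    have h' : w ^ (i : ℕ) * x ^ (j : ℕ) = w ^ (i' : ℕ) * x ^ (j' : ℕ) := congrArg Subtype.val h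
    have hxx : x ^ (j : ℕ) * (x ^ (j' : ℕ))⁻¹ ∈ zpowers w := by
      have : x ^ (j : ℕ) * (x ^ (j' : ℕ))⁻¹ = (w ^ (i : ℕ))⁻¹ * w ^ (i' : ℕ) := by
        calc x ^ (j : ℕ) * (x ^ (j' : ℕ))⁻¹
            = (w ^ (i : ℕ))⁻¹ * (w ^ (i : ℕ) * x ^ (j : ℕ)) * (x ^ (j' : ℕ))⁻¹ := by group
          _ = (w ^ (i : ℕ))⁻¹ * (w ^ (i' : ℕ) * x ^ (j' : ℕ)) * (x ^ (j' : ℕ))⁻¹ := by rw [h']
          _ = _ := by group
      rw [this]
      exact mul_mem (inv_mem (pow_mem (mem_zpowers w) _)) (pow_mem (mem_zpowers w) _)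
    have hjj : j = j' := by
      by_contra hne
      apply hxw
      obtain ⟨d, hd, hd'⟩ : ∃ d : ℤ, (d = 1 ∨ d = 2 ∨ d = -1 ∨ d = -2) ∧
          x ^ (j : ℕ) * (x ^ (j' : ℕ))⁻¹ = x ^ d := by
        refine ⟨(j : ℤ) - (j' : ℤ), ?_, by rw [zpow_sub, zpow_natCast, zpow_natCast]⟩
        have : (j : ℕ) ≠ (j' : ℕ) := fun e => hne (Fin.ext e)
        have := j.2
        have := j'.2
        omega
      rw [hd'] at hxx
      have hx' : x ^ (3 : ℤ) = 1 := by rw [zpow_ofNat, hx3]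
      rcases hd with rfl | rfl | rfl | rfl
      · simpa using hxx
      · have := inv_mem hxx
        rwa [← zpow_neg, show -(2 : ℤ) = 1 + (-1) * 3 by norm_num, zpow_add, mul_comm (-1 : ℤ) 3,
          zpow_mul, hx', one_zpow, mul_one, zpow_one] at this
      · simpa using hxx
      · rwa [show -(2 : ℤ) = 1 + (-1) * 3 by norm_num, zpow_add, mul_comm (-1 : ℤ) 3, zpow_mul, hx',
          one_zpow, mul_one, zpow_one] at hxx
    subst hjj
    have hi : w ^ (i : ℕ) = w ^ (i' : ℕ) := mul_right_cancel h'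
    rw [pow_eq_pow_iff_modEq, H.orderOf_eq_three hw hw1] at hi
    have := i.2
    have := i'.2
    have : i = i' := Fin.ext (by unfold Nat.ModEq at hi; omega)
    rw [this]
  have hS : ∀ z ∈ H.S, ∃ i j : Fin 3, z = w ^ (i : ℕ) * x ^ (j : ℕ) := fun z hz => by
    obtain ⟨⟨i, j⟩, hij⟩ := hf.2 ⟨z, hz⟩
    exact ⟨i, j, (congrArg Subtype.val hij).symm⟩
  obtain ⟨b, hb⟩ := d8_sq
  obtain ⟨⟨g, hg⟩, rfl⟩ := H.π_surj b
  set h := g * g with hh
  have hhN : h ∈ H.N := H.N.mul_mem hg hg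
  -- the square acts unipotently
  have hhw : h * w * h⁻¹ = w := by
    rcases hcases (hinv g hg) with e | e | e
    · exact absurd (conj_eq_one_iff.1 e) hw1
    · calc h * w * h⁻¹ = g * (g * w * g⁻¹) * g⁻¹ := by rw [hh]; group
        _ = w := by rw [e, e]
    · calc h * w * h⁻¹ = g * (g * w * g⁻¹) * g⁻¹ := by rw [hh]; group
        _ = g * w⁻¹ * g⁻¹ := by rw [e]
        _ = (g * w * g⁻¹)⁻¹ := by group
        _ = w := by rw [e, inv_inv]
  have hgS : ∀ z ∈ H.S, g * z * g⁻¹ ∈ H.S := fun z hz => (mem_normalizer_iff.1 hg z).1 hz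
  obtain ⟨k, hk⟩ : ∃ k ∈ zpowers w, h * x * h⁻¹ = k * x := by
    obtain ⟨i, j, hij⟩ := hS _ (hgS x hx)
    have hj0 : (j : ℕ) ≠ 0 := by
      intro e
      rw [e, pow_zero, mul_one] at hij
      apply hxw
      have hm : g⁻¹ * (w ^ (i : ℕ)) * g⁻¹⁻¹ ∈ zpowers w := by
        rw [← conj_pow]
        exact pow_mem (hinv _ (inv_mem hg)) _
      rw [← hij] at hm
      simpa [mul_assoc] using hm
    refine ⟨(g * w * g⁻¹) ^ (i : ℕ) * (w ^ (i : ℕ)) ^ (j : ℕ), mul_mem (pow_mem (hinv g hg) _)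
      (pow_mem (pow_mem (mem_zpowers w) _) _), ?_⟩
    have hxx : (x ^ (j : ℕ)) ^ (j : ℕ) = x := by
      have hj : (j : ℕ) = 1 ∨ (j : ℕ) = 2 := by have := j.2; omega
      rcases hj with e | e <;> rw [e]
      · simp
      · rw [← pow_mul, show 2 * 2 = 3 + 1 by norm_num, pow_succ, hx3, one_mul]
    calc h * x * h⁻¹ = g * (g * x * g⁻¹) * g⁻¹ := by rw [hh]; group
      _ = g * (w ^ (i : ℕ) * x ^ (j : ℕ)) * g⁻¹ := by rw [hij]
      _ = (g * w * g⁻¹) ^ (i : ℕ) * (g * x * g⁻¹) ^ (j : ℕ) := by rw [conj_pow, conj_pow]; group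
      _ = (g * w * g⁻¹) ^ (i : ℕ) * ((w ^ (i : ℕ)) ^ (j : ℕ) * (x ^ (j : ℕ)) ^ (j : ℕ)) := by
        rw [hij, (show Commute (w ^ (i : ℕ)) (x ^ (j : ℕ)) from
          H.comm (pow_mem hw _) (pow_mem hx _)).mul_pow]
      _ = _ := by rw [hxx]; simp only [mul_assoc]
  have hk3 : k ^ 3 = 1 := by rcases hcases hk.1 with rfl | rfl | rfl <;> simp [hw3]
  have hkh : h * k * h⁻¹ = k := by
    rcases hcases hk.1 with rfl | rfl | rfl
    · group
    · exact hhw
    · rw [← conj_inv, hhw]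
  have hxfix : h ^ 3 * x * (h ^ 3)⁻¹ = x := by
    have e1 : h * (h * x * h⁻¹) * h⁻¹ = k * (k * x) := by
      calc h * (h * x * h⁻¹) * h⁻¹ = h * (k * x) * h⁻¹ := by rw [hk.2]
        _ = h * k * h⁻¹ * (h * x * h⁻¹) := by group
        _ = k * (k * x) := by rw [hkh, hk.2]
    calc h ^ 3 * x * (h ^ 3)⁻¹ = h * (h * (h * x * h⁻¹) * h⁻¹) * h⁻¹ := by
          simp [pow_succ, mul_assoc]
      _ = h * (k * (k * x)) * h⁻¹ := by rw [e1]
      _ = h * k * h⁻¹ * (h * k * h⁻¹ * (h * x * h⁻¹)) := by group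
      _ = k * (k * (k * x)) := by rw [hkh, hk.2]
      _ = k ^ 3 * x := by simp [pow_succ, mul_assoc]
      _ = x := by rw [hk3, one_mul]
  have hwfix : h ^ 3 * w * (h ^ 3)⁻¹ = w := by
    calc h ^ 3 * w * (h ^ 3)⁻¹ = h * (h * (h * w * h⁻¹) * h⁻¹) * h⁻¹ := by
          simp [pow_succ, mul_assoc]
      _ = w := by rw [hhw, hhw, hhw]
  have hfix : ∀ z ∈ H.S, h ^ 3 * z * (h ^ 3)⁻¹ = z := fun z hz => by
    obtain ⟨i, j, rfl⟩ := hS z hz
    rw [← conj_mul, ← conj_pow, ← conj_pow, hwfix, hxfix]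
  have := H.mem_S_of_sq_cube hhN (by decide : Odd 3) hfix
  rw [← H.π_eq_one hhN] at this
  exact hb (by rw [← map_mul]; exact this)

/-- A central element of the automizer fixes no point. -/
theorem central_fpf {h : G} (hh : h ∈ H.N) (hc : ∀ c : D8, c * H.π ⟨h, hh⟩ = H.π ⟨h, hh⟩ * c)
    (h1 : h ∉ H.S) {x : G} (hx : x ∈ H.S) (hx1 : x ≠ 1) : h * x * h⁻¹ ≠ x := by
  intro e
  set C := H.S ⊓ centralizer ({h} : Set G) with hC
  have hxC : x ∈ C := mem_inf.2 ⟨hx, mem_centralizer_singleton_iff.2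
    ((mul_inv_eq_iff_eq_mul.1 e).symm)⟩
  have hCeq : C = zpowers x := by
    refine (eq_of_le_of_card_ge (zpowers_le.2 hxC) ?_).symm
    rw [Nat.card_zpowers, H.orderOf_eq_three hx hx1]
    have hd := card_dvd_of_le (inf_le_left : C ≤ H.S)
    rw [H.cardS] at hd
    have hne : Nat.card C ≠ 9 := by
      intro h9
      have hCS : C = H.S := eq_of_le_of_card_ge inf_le_left (by rw [h9, H.cardS])
      apply h1
      rw [← H.centS, mem_centralizer_iff]
      intro y hy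
      exact (mem_centralizer_singleton_iff.1 (mem_inf.1 (hCS.symm ▸ hy : y ∈ C)).2)
    have hd' : Nat.card C ∈ Nat.divisors 9 := Nat.mem_divisors.2 ⟨hd, by norm_num⟩
    rw [show Nat.divisors 9 = {1, 3, 9} by decide] at hd'
    simp only [Finset.mem_insert, Finset.mem_singleton] at hd'
    omega
  refine H.no_line hx hx1 fun g hg => ?_
  rw [← hCeq]
  have hgx : g * x * g⁻¹ ∈ H.S := (mem_normalizer_iff.1 hg x).1 hx
  refine mem_inf.2 ⟨hgx, mem_centralizer_singleton_iff.2 ?_⟩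
  -- `g h g⁻¹` and `h` act alike
  have hs : h⁻¹ * (g * h * g⁻¹) ∈ H.S := by
    have hm : h⁻¹ * (g * h * g⁻¹) ∈ H.N :=
      H.N.mul_mem (inv_mem hh) (H.N.mul_mem (H.N.mul_mem hg hh) (inv_mem hg))
    rw [← H.π_eq_one hm]
    have hsub : (⟨h⁻¹ * (g * h * g⁻¹), hm⟩ : H.N) = ⟨h, hh⟩⁻¹ * (⟨g, hg⟩ * ⟨h, hh⟩ * ⟨g, hg⟩⁻¹) :=
      Subtype.ext rfl
    rw [hsub, map_mul, map_mul, map_mul, map_inv, map_inv, hc, mul_inv_cancel_right, inv_mul_cancel]
  have hconj : g * h * g⁻¹ * (g * x * g⁻¹) * (g * h * g⁻¹)⁻¹ = g * x * g⁻¹ := by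
    calc g * h * g⁻¹ * (g * x * g⁻¹) * (g * h * g⁻¹)⁻¹ = g * (h * x * h⁻¹) * g⁻¹ := by group
      _ = _ := by rw [e]
  have h2 : h * (g * x * g⁻¹) * h⁻¹ = g * x * g⁻¹ := by
    conv_rhs => rw [← hconj]
    set s := h⁻¹ * (g * h * g⁻¹) with hs'
    have e2 : g * h * g⁻¹ = h * s := by rw [hs']; group
    rw [e2]
    calc h * (g * x * g⁻¹) * h⁻¹ = h * (s * (g * x * g⁻¹) * s⁻¹) * h⁻¹ := by
          rw [H.comm hs hgx, mul_inv_cancel_right]
      _ = _ := by group
  exact (mul_inv_eq_iff_eq_mul.1 h2).symm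

theorem inverts_of_fpf {h : G} (hh : h ∈ H.N) (h2 : h * h ∈ H.S)
    (hfix : ∀ x ∈ H.S, h * x * h⁻¹ = x → x = 1) : ∀ x ∈ H.S, h * x * h⁻¹ = x⁻¹ := by
  intro x hx
  have hn : ∀ y ∈ H.S, h * y * h⁻¹ ∈ H.S := fun y hy => (mem_normalizer_iff.1 hh y).1 hy
  have hi : ∀ y ∈ H.S, h * (h * y * h⁻¹) * h⁻¹ = y := fun y hy => by
    calc h * (h * y * h⁻¹) * h⁻¹ = h * h * y * (h * h)⁻¹ := by group
      _ = y := by rw [H.comm h2 hy, mul_inv_cancel_right]
  let f : H.S → H.S := fun y => ⟨(y : G)⁻¹ * (h * y * h⁻¹), mul_mem (inv_mem y.2) (hn y y.2)⟩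
  have hf : Function.Injective f := by
    intro y w e
    have h' : (y : G)⁻¹ * (h * y * h⁻¹) = (w : G)⁻¹ * (h * w * h⁻¹) := congrArg Subtype.val e
    refine (Subtype.ext (mul_inv_eq_one.1 (hfix _ (mul_mem w.2 (inv_mem y.2)) ?_))).symm
    calc h * ((w : G) * (y : G)⁻¹) * h⁻¹
        = (w : G) * ((w : G)⁻¹ * (h * w * h⁻¹)) * ((h * y * h⁻¹)⁻¹) := by group
      _ = (w : G) * ((y : G)⁻¹ * (h * y * h⁻¹)) * ((h * y * h⁻¹)⁻¹) := by rw [h']
      _ = (w : G) * (y : G)⁻¹ := by group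
  obtain ⟨y, hy⟩ := Finite.surjective_of_injective hf ⟨x, hx⟩
  have hy' : (y : G)⁻¹ * (h * y * h⁻¹) = x := congrArg Subtype.val hy
  rw [← hy']
  calc h * ((y : G)⁻¹ * (h * y * h⁻¹)) * h⁻¹ = (h * y * h⁻¹)⁻¹ * (h * (h * y * h⁻¹) * h⁻¹) := by group
    _ = (h * y * h⁻¹)⁻¹ * y := by rw [hi y y.2]
    _ = ((y : G)⁻¹ * (h * y * h⁻¹))⁻¹ := by group

/-- A central involution of the automizer inverts the Sylow subgroup. -/
theorem central_inverts {h : G} (hh : h ∈ H.N) (hc : ∀ c : D8, c * H.π ⟨h, hh⟩ = H.π ⟨h, hh⟩ * c)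
    (h1 : h ∉ H.S) (h2 : h * h ∈ H.S) : ∀ x ∈ H.S, h * x * h⁻¹ = x⁻¹ :=
  H.inverts_of_fpf hh h2 fun x hx e => by
    by_contra hx1
    exact H.central_fpf hh hc h1 hx hx1 e

/-- The automizer is not regular on the Sylow subgroup. -/
theorem exists_fixing : ∃ g, ∃ hg : g ∈ H.N, g ∉ H.S ∧ ∃ x ∈ H.S, x ≠ 1 ∧ g * x * g⁻¹ = x := by
  by_contra hcon
  push Not at hcon
  obtain ⟨a, b, ha, hb, hab, ha2, hb2⟩ := d8_invols
  obtain ⟨⟨g, hg⟩, rfl⟩ := H.π_surj a
  obtain ⟨⟨g', hg'⟩, rfl⟩ := H.π_surj b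
  have key : ∀ c, ∀ hc : c ∈ H.N, H.π ⟨c, hc⟩ ≠ 1 → H.π ⟨c, hc⟩ * H.π ⟨c, hc⟩ = 1 →
      ∀ x ∈ H.S, c * x * c⁻¹ = x⁻¹ := by
    intro c hc hc1 hc2
    have hcS : c ∉ H.S := fun h => hc1 ((H.π_eq_one hc).2 h)
    refine H.inverts_of_fpf hc ?_ fun x hx e => by
      by_contra hx1
      exact hcon c hc hcS x hx hx1 e
    rw [← H.π_eq_one (H.N.mul_mem hc hc)]
    exact hc2.symm ▸ (map_mul H.π ⟨c, hc⟩ ⟨c, hc⟩)
  have h1 := key g hg ha ha2
  have h2 := key g' hg' hb hb2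
  apply hab
  have hS : g * g'⁻¹ ∈ H.S := by
    rw [← H.centS, mem_centralizer_iff]
    intro x hx
    have e2 : g'⁻¹ * x * g' = x⁻¹ := by
      calc g'⁻¹ * x * g' = g'⁻¹ * (g' * x⁻¹ * g'⁻¹) * g' := by rw [h2 _ (inv_mem hx), inv_inv]
        _ = x⁻¹ := by group
    have e : g * g'⁻¹ * x * (g * g'⁻¹)⁻¹ = x := by
      calc g * g'⁻¹ * x * (g * g'⁻¹)⁻¹ = g * (g'⁻¹ * x * g') * g⁻¹ := by group
        _ = x := by rw [e2, h1 _ (inv_mem hx), inv_inv]
    exact (mul_inv_eq_iff_eq_mul.1 e).symm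
  have hm : g * g'⁻¹ ∈ H.N := H.N.mul_mem hg (inv_mem hg')
  rw [← H.π_eq_one hm] at hS
  have hsub : (⟨g * g'⁻¹, hm⟩ : H.N) = ⟨g, hg⟩ * ⟨g', hg'⟩⁻¹ := Subtype.ext rfl
  rw [hsub, map_mul, map_inv] at hS
  exact mul_inv_eq_one.1 hS

theorem p_le_S {R : Subgroup G} (hR : IsPGroup 3 R) (hle : R ≤ H.N) : R ≤ H.S := by
  have hsup : IsPGroup 3 ↥(R ⊔ H.S) := hR.to_sup_of_normal_right' H.P.2 hle
  exact le_sup_left.trans (H.P.3 hsup le_sup_right).le

theorem mem_N_of_conj {g x : G} (hx : x ∈ H.S) (hx1 : x ≠ 1) (hgx : g * x * g⁻¹ ∈ H.S) :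
    g ∈ H.N := by
  have hne : g * x * g⁻¹ ≠ 1 := fun e => hx1 (conj_eq_one_iff.1 e)
  have hle : H.S.map (MulAut.conj g).toMonoidHom ≤ H.N := by
    rintro _ ⟨y, hy, rfl⟩
    refine H.loc _ hgx hne (mem_centralizer_singleton_iff.2 ?_)
    show g * y * g⁻¹ * (g * x * g⁻¹) = g * x * g⁻¹ * (g * y * g⁻¹)
    calc g * y * g⁻¹ * (g * x * g⁻¹) = g * (y * x) * g⁻¹ := by group
      _ = g * (x * y) * g⁻¹ := by rw [H.comm hy hx]
      _ = _ := by group
  have hT := H.p_le_S (H.P.2.map (MulAut.conj g).toMonoidHom) hle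
  have he := eq_of_le_of_card_ge hT (card_map_of_injective (MulAut.conj g).injective).ge
  rw [mem_normalizer_iff]
  intro y
  show y ∈ H.S ↔ g * y * g⁻¹ ∈ H.S
  conv_rhs => rw [← he]
  exact (mem_map_iff_mem (f := (MulAut.conj g).toMonoidHom) (MulAut.conj g).injective).symm

/-- Subgroups of order prime to three normalized by the Sylow subgroup are trivial. -/
theorem eq_bot_of_normalized {R : Subgroup G} (hR : ¬ 3 ∣ Nat.card R)
    (hn : H.S ≤ normalizer (R : Set G)) : R = ⊥ := by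
  haveI : IsMulCommutative H.S := H.isElementaryAbelian.1
  have hncyc : ¬ IsCyclic H.S := by
    intro hc
    obtain ⟨g, hg⟩ := hc.exists_zpow_surjective
    have h9 : orderOf g = 9 := by
      rw [← H.cardS]
      exact orderOf_eq_card_of_forall_mem_zpowers fun y => by
        obtain ⟨k, hk⟩ := hg y; exact ⟨k, hk⟩
    have h3 := orderOf_dvd_of_pow_eq_one (Subtype.ext (H.cube g.2) : g ^ 3 = 1)
    rw [h9] at h3
    norm_num at h3
  have hcop : (Nat.card H.S).Coprime (Nat.card R) := by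
    rw [H.cardS, show (9 : ℕ) = 3 ^ 2 by norm_num]
    exact ((Nat.prime_three.coprime_iff_not_dvd).2 hR).pow_left 2
  have htriv : ∀ r ∈ R, r ∈ H.S → r = 1 := fun r hr hrS => by
    have hd : orderOf r ∣ Nat.card R := by
      rw [← Subgroup.orderOf_mk r hr]; exact orderOf_dvd_natCard _
    refine orderOf_eq_one_iff.1 (Nat.eq_one_of_dvd_coprimes
      ((Nat.prime_three.coprime_iff_not_dvd).2 hR) (orderOf_dvd_of_pow_eq_one (H.cube hrS)) hd)
  rw [← CfsgLib.CoprimeAct.generated_by_centralizers hncyc hn hcop, eq_bot_iff]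
  refine iSup₂_le fun a ha c hc => ?_
  obtain ⟨hcR, hca⟩ := mem_inf.1 hc
  have hcN : c ∈ H.N := H.loc a ha.1 ha.2 hca
  refine mem_bot.2 (htriv c hcR ?_)
  rw [← H.centS, mem_centralizer_iff]
  intro s hs
  have h1 : c * s * c⁻¹ * s⁻¹ ∈ H.S := mul_mem ((mem_normalizer_iff.1 hcN s).1 hs) (inv_mem hs)
  have h2 : c * s * c⁻¹ * s⁻¹ ∈ R := by
    rw [show c * s * c⁻¹ * s⁻¹ = c * (s * c⁻¹ * s⁻¹) by group]
    exact mul_mem hcR ((mem_normalizer_iff.1 (hn hs) _).1 (inv_mem hcR))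
  exact (mul_inv_eq_iff_eq_mul.1 (mul_inv_eq_one.1 (htriv _ h2 h1))).symm

/-- The unique minimal normal subgroup. -/
theorem exists_simple_normal (hnn : ¬ H.S.Normal) :
    ∃ L : Subgroup G, L.Normal ∧ IsSimpleGroup L ∧ H.S ≤ L ∧ ¬ IsMulCommutative L := by
  classical
  haveI : Fact (Nat.Prime 3) := ⟨Nat.prime_three⟩
  have htop : (⊤ : Subgroup G) ≠ ⊥ := fun e => by
    have := H.cardS
    rw [show H.S = ⊥ from le_bot_iff.1 (le_top.trans e.le), card_bot] at this
    norm_num at this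
  obtain ⟨L, hLn, hL1, -, hmin⟩ := CfsgLib.Solvable.exists_minimal_normal_le htop
  haveI := hLn
  have hconj : ∀ a ∈ L, orderOf a = 3 → ∃ g : G, g * a * g⁻¹ ∈ H.S ⊓ L ∧ g * a * g⁻¹ ≠ 1 := by
    intro a ha h3
    obtain ⟨Q, hQ⟩ := (IsPGroup.of_card (p := 3) (n := 1) (by rw [Nat.card_zpowers, h3, pow_one]) :
      IsPGroup 3 (zpowers a)).exists_le_sylow
    obtain ⟨g, hg⟩ := MulAction.exists_smul_eq G Q H.P
    refine ⟨g, mem_inf.2 ⟨?_, hLn.conj_mem a ha g⟩, fun e => ?_⟩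
    · show g * a * g⁻¹ ∈ (H.P : Subgroup G)
      rw [← hg]
      exact ⟨a, hQ (mem_zpowers a), rfl⟩
    · rw [conj_eq_one_iff.1 e, orderOf_one] at h3
      norm_num at h3
  have h3L : 3 ∣ Nat.card L := by
    by_contra h
    exact hL1 (H.eq_bot_of_normalized h (fun s _ => by rw [normalizer_eq_top_iff.2 hLn]; trivial))
  obtain ⟨a, ha⟩ := exists_prime_orderOf_dvd_card' 3 h3L
  rw [← Subgroup.orderOf_coe] at ha
  obtain ⟨g, hgS, hg1⟩ := hconj a a.2 ha
  set w := g * a * g⁻¹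
  have hSL : H.S ≤ L := by
    by_contra hle
    refine H.no_line (mem_inf.1 hgS).1 hg1 fun c hc => ?_
    have heq : H.S ⊓ L = zpowers w := by
      refine (eq_of_le_of_card_ge (zpowers_le.2 hgS) ?_).symm
      rw [Nat.card_zpowers, H.orderOf_eq_three (mem_inf.1 hgS).1 hg1]
      have hd := card_dvd_of_le (inf_le_left : H.S ⊓ L ≤ H.S)
      rw [H.cardS] at hd
      have hne : Nat.card ↥(H.S ⊓ L) ≠ 9 := fun e =>
        hle (inf_eq_left.1 (eq_of_le_of_card_ge inf_le_left (by rw [e, H.cardS])))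
      have hd' : Nat.card ↥(H.S ⊓ L) ∈ Nat.divisors 9 := Nat.mem_divisors.2 ⟨hd, by norm_num⟩
      rw [show Nat.divisors 9 = {1, 3, 9} by decide] at hd'
      simp only [Finset.mem_insert, Finset.mem_singleton] at hd'
      omega
    rw [← heq]
    exact mem_inf.2 ⟨(mem_normalizer_iff.1 hc w).1 (mem_inf.1 hgS).1, hLn.conj_mem w (mem_inf.1 hgS).2 c⟩
  have hLna : ¬ IsMulCommutative L := by
    intro hc
    apply hnn
    have hle : L ≤ H.S := by
      rw [← H.centS]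
      intro l hl
      rw [mem_centralizer_iff]
      intro s hs
      exact congrArg Subtype.val (mul_comm' (⟨s, hSL hs⟩ : L) ⟨l, hl⟩)
    rwa [le_antisymm hSL hle]
  obtain ⟨T, hT⟩ := CfsgLib.ExtPrim.exists_isFactor L hL1 hmin hLna
  have hnormT : H.S ≤ normalizer (T : Set G) := by
    intro s hs
    rw [mem_normalizer_iff]
    intro x
    refine ⟨fun hx => hT.conj_mem s (hSL hs) x hx, fun hx => ?_⟩
    have := hT.conj_mem s⁻¹ (inv_mem (hSL hs)) _ hx
    simpa [mul_assoc] using this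
  have h3T : 3 ∣ Nat.card T := by
    by_contra h
    exact hT.ne_bot (H.eq_bot_of_normalized h hnormT)
  obtain ⟨t, ht⟩ := exists_prime_orderOf_dvd_card' 3 h3T
  rw [← Subgroup.orderOf_coe] at ht
  -- conjugate it into the Sylow subgroup inside `L`
  obtain ⟨t', ht'T, ht'S, ht'1⟩ : ∃ t' ∈ T, t' ∈ H.S ∧ t' ≠ 1 := by
    obtain ⟨Q, hQ⟩ := (IsPGroup.of_card (p := 3) (n := 1)
      (by rw [Nat.card_zpowers, Subgroup.orderOf_mk (t : G) (hT.le t.2), ht, pow_one]) :
      IsPGroup 3 (zpowers (⟨(t : G), hT.le t.2⟩ : L))).exists_le_sylow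
    obtain ⟨l, hl⟩ := MulAction.exists_smul_eq L Q (H.P.subtype hSL)
    refine ⟨(l : G) * t * (l : G)⁻¹, hT.conj_mem l l.2 t t.2, ?_, fun e => ?_⟩
    · have hm : l * ⟨(t : G), hT.le t.2⟩ * l⁻¹ ∈ ((H.P.subtype hSL : Sylow 3 L) : Subgroup L) := by
        rw [← hl]
        exact ⟨_, hQ (mem_zpowers _), rfl⟩
      rw [Sylow.coe_subtype, mem_subgroupOf] at hm
      exact hm
    · rw [conj_eq_one_iff.1 e, orderOf_one] at ht
      norm_num at ht
  have hoth : CfsgLib.ExtPrim.others T = ⊥ := by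
    rw [CfsgLib.ExtPrim.others, eq_bot_iff]
    refine iSup₂_le fun c hc => ?_
    have hF := hT.cj c
    set T' := CfsgLib.ExtPrim.cj c T
    have hT'N : T' ≤ H.N := by
      refine le_trans ?_ (H.loc t' ht'S ht'1)
      intro y hy
      have := (hT.others_comm (CfsgLib.ExtPrim.cj_le_others hc hy))
      exact mem_centralizer_singleton_iff.2 (mem_centralizer_iff.1 this t' ht'T).symm
    have htr : ∀ y ∈ T', y ∈ H.S → y = 1 := by
      intro y hy hyS
      haveI := hF.simple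
      have hnorm : ((H.S).subgroupOf T').Normal := ⟨fun z hz d => by
        rw [mem_subgroupOf] at hz ⊢
        exact (mem_normalizer_iff.1 (hT'N d.2) _).1 hz⟩
      rcases IsSimpleGroup.eq_bot_or_eq_top_of_normal _ hnorm with h | h
      · have hy' : (⟨y, hy⟩ : T') ∈ (⊥ : Subgroup T') := h ▸ mem_subgroupOf.2 hyS
        exact congrArg Subtype.val (mem_bot.1 hy')
      · rw [subgroupOf_eq_top] at h
        exact absurd (⟨⟨fun p q => Subtype.ext (H.comm (h p.2) (h q.2))⟩⟩ : IsMulCommutative T') hF.nonab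
    have hC : T' ≤ centralizer (H.S : Set G) := by
      intro y hy
      rw [mem_centralizer_iff]
      intro s hs
      have h1 : y * s * y⁻¹ * s⁻¹ ∈ H.S :=
        mul_mem ((mem_normalizer_iff.1 (hT'N hy) s).1 hs) (inv_mem hs)
      have h2 : y * s * y⁻¹ * s⁻¹ ∈ T' := by
        rw [show y * s * y⁻¹ * s⁻¹ = y * (s * y⁻¹ * s⁻¹) by group]
        exact mul_mem hy (hF.conj_mem s (hSL hs) _ (inv_mem hy))
      exact (mul_inv_eq_iff_eq_mul.1 (mul_inv_eq_one.1 (htr _ h2 h1))).symm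
    exact fun y hy => mem_bot.2 (htr y hy (H.centS ▸ hC hy))
  have hTL : T = L := by
    have := hT.sup_others
    rwa [hoth, sup_bot_eq] at this
  exact ⟨L, hLn, hTL ▸ hT.simple, hSL, hLna⟩

/-- A group with these hypotheses that is not simple is `S₆`, or the Sylow subgroup is normal. -/
theorem normal_or_symSix (hsimple : ¬ IsSimpleGroup G) :
    H.S.Normal ∨ Nonempty (G ≃* Equiv.Perm (Fin 6)) := by
  classical
  by_contra hcon
  push Not at hcon
  obtain ⟨hnn, hne6⟩ := hcon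
  haveI : Fact (Nat.Prime 3) := ⟨Nat.prime_three⟩
  obtain ⟨L, hLn, hLs, hSL, hLna⟩ := H.exists_simple_normal hnn
  haveI := hLn
  haveI := hLs
  -- the Sylow subgroup of `L`
  let PL : Sylow 3 L := H.P.subtype hSL
  have hPL : (PL : Subgroup L) = H.S.subgroupOf L := Sylow.coe_subtype _ _
  have hPLmem : ∀ {x : L}, x ∈ (PL : Subgroup L) ↔ (x : G) ∈ H.S := fun {x} => by
    rw [hPL, mem_subgroupOf]
  have hPLcard : Nat.card (PL : Subgroup L) = 9 := by
    rw [hPL, Nat.card_congr (subgroupOfEquivOfLe hSL).toEquiv, H.cardS]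
  have hnL : normalizer ((PL : Subgroup L) : Set L) = H.N.subgroupOf L := by
    ext g
    rw [mem_subgroupOf]
    constructor
    · intro h
      rw [mem_normalizer_iff]
      intro y
      constructor
      · intro hy
        exact hPLmem.1 ((mem_normalizer_iff.1 h ⟨y, hSL hy⟩).1 (hPLmem.2 hy))
      · intro hy
        have hyL : y ∈ L := by
          have := hLn.conj_mem _ (hSL hy) (g : G)⁻¹
          simpa [mul_assoc] using this
        exact hPLmem.1 ((mem_normalizer_iff.1 h ⟨y, hyL⟩).2 (hPLmem.2 hy))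
    · intro h
      rw [mem_normalizer_iff]
      intro y
      show y ∈ (PL : Subgroup L) ↔ g * y * g⁻¹ ∈ (PL : Subgroup L)
      rw [hPLmem, hPLmem]
      exact mem_normalizer_iff.1 h y
  -- its automizer
  set B : Subgroup D8 := (L.subgroupOf H.N).map H.π with hB
  have hmemB : ∀ g, ∀ hg : g ∈ H.N, g ∈ L → H.π ⟨g, hg⟩ ∈ B := fun g hg hgL =>
    mem_map_of_mem _ (mem_subgroupOf.2 hgL)
  have hBex : ∀ b ∈ B, ∃ g, ∃ hg : g ∈ H.N, g ∈ L ∧ H.π ⟨g, hg⟩ = b := by
    rintro _ ⟨g, hg, rfl⟩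
    exact ⟨g, g.2, mem_subgroupOf.1 hg, rfl⟩
  have hBn : ∀ b ∈ B, ∀ c : D8, c * b * c⁻¹ ∈ B := by
    intro b hb c
    obtain ⟨g, hg, hgL, rfl⟩ := hBex b hb
    obtain ⟨⟨n, hn⟩, rfl⟩ := H.π_surj c
    rw [← map_inv, ← map_mul, ← map_mul]
    exact hmemB _ _ (hLn.conj_mem g hgL n)
  let ρ : ↥(normalizer ((PL : Subgroup L) : Set L)) →* D8 :=
    H.π.comp (MonoidHom.mk' (fun g => (⟨((g : L) : G), by
      exact mem_subgroupOf.1 (hnL.le g.2)⟩ : H.N)) fun a b => Subtype.ext rfl)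
  have hρker : ρ.ker = (PL : Subgroup L).subgroupOf (normalizer ((PL : Subgroup L) : Set L)) := by
    ext g
    rw [MonoidHom.mem_ker, mem_subgroupOf, hPLmem]
    exact H.π_eq_one _
  have hρrange : ρ.range = B := by
    ext b
    constructor
    · rintro ⟨g, rfl⟩
      exact hmemB _ _ (g : L).2
    · intro hb
      obtain ⟨g, hg, hgL, rfl⟩ := hBex b hb
      exact ⟨⟨⟨g, hgL⟩, by rw [hnL, mem_subgroupOf]; exact hg⟩, rfl⟩
  have hNLcard : Nat.card (normalizer ((PL : Subgroup L) : Set L)) = 9 * Nat.card B := by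
    rw [← card_mul_index ρ.ker, index_ker, hρrange, hρker,
      Nat.card_congr (subgroupOfEquivOfLe le_normalizer).toEquiv, hPLcard]
  have hLcent : centralizer ((PL : Subgroup L) : Set L) = PL := by
    ext g
    rw [hPLmem, mem_centralizer_iff]
    constructor
    · intro h
      rw [← H.centS, mem_centralizer_iff]
      intro y hy
      exact congrArg Subtype.val (h ⟨y, hSL hy⟩ (hPLmem.2 hy))
    · intro h y hy
      exact Subtype.ext (H.comm (hPLmem.1 hy) h)
  have hB1 : Nat.card B ≠ 1 := by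
    intro hb
    have hle : normalizer ((PL : Subgroup L) : Set L) ≤ centralizer ((PL : Subgroup L) : Set L) := by
      rw [hLcent]
      intro g hg
      rw [hPLmem]
      have hg' : (g : G) ∈ H.N := by rw [hnL, mem_subgroupOf] at hg; exact hg
      rw [← H.π_eq_one hg']
      have hmem := hmemB (g : G) hg' g.2
      rw [card_eq_one.1 hb, mem_bot] at hmem
      exact hmem
    have hc := MonoidHom.ker_transferSylow_isComplement' PL hle
    rcases IsSimpleGroup.eq_bot_or_eq_top_of_normal (MonoidHom.transferSylow PL hle).ker inferInstance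
      with h | h
    · rw [h, isComplement'_bot_left] at hc
      refine hLna ⟨⟨fun p q => Subtype.ext ?_⟩⟩
      exact H.comm (hPLmem.1 (hc ▸ mem_top p)) (hPLmem.1 (hc ▸ mem_top q))
    · rw [h, isComplement'_top_left] at hc
      rw [hc, card_bot] at hPLcard
      norm_num at hPLcard
  have hB8 : Nat.card B ≠ 8 := by
    intro hb
    have hBtop : B = ⊤ := eq_top_of_card_eq B (by rw [hb, card_d8])
    have hNL : H.N ≤ L := by
      intro n hn
      obtain ⟨g, hg, hgL, hgπ⟩ := hBex (H.π ⟨n, hn⟩) (hBtop ▸ mem_top _)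
      have hm : g⁻¹ * n ∈ H.N := H.N.mul_mem (inv_mem hg) hn
      have hS : g⁻¹ * n ∈ H.S := by
        rw [← H.π_eq_one hm, show (⟨g⁻¹ * n, hm⟩ : H.N) = ⟨g, hg⟩⁻¹ * ⟨n, hn⟩ from Subtype.ext rfl,
          map_mul, map_inv, hgπ, inv_mul_cancel]
      have := L.mul_mem hgL (hSL hS)
      rwa [mul_inv_cancel_left] at this
    have htop := Sylow.normalizer_sup_eq_top PL
    rw [hPL, subgroupOf_map_subtype, inf_eq_left.2 hSL, sup_eq_right.2 hNL] at htop
    subst htop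
    exact hsimple (Subgroup.topEquiv.symm.isSimpleGroup)
  have hBd : Nat.card B ∈ Nat.divisors 8 :=
    Nat.mem_divisors.2 ⟨card_d8 ▸ B.card_subgroup_dvd_card, by norm_num⟩
  rw [show Nat.divisors 8 = {1, 2, 4, 8} by decide] at hBd
  simp only [Finset.mem_insert, Finset.mem_singleton] at hBd
  -- a Klein automizer
  have hklein : Nat.card B = 4 → ∃ b ∈ B, b * b ≠ 1 := by
    intro h4
    by_contra hsq
    push Not at hsq
    haveI hn2 : ((PL : Subgroup L).subgroupOf (normalizer ((PL : Subgroup L) : Set L))).Normal :=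
      normal_in_normalizer
    have eB : (↥(normalizer ((PL : Subgroup L) : Set L)) ⧸
        (PL : Subgroup L).subgroupOf (normalizer ((PL : Subgroup L) : Set L))) ≃* B :=
      (QuotientGroup.quotientMulEquivOfEq hρker.symm).trans
        ((QuotientGroup.quotientKerEquivRange ρ).trans (MulEquiv.subgroupCongr hρrange))
    have hKl : IsKleinFour (↥(normalizer ((PL : Subgroup L) : Set L)) ⧸
        (PL : Subgroup L).subgroupOf (normalizer ((PL : Subgroup L) : Set L))) := by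
      constructor
      · rw [Nat.card_congr eB.toEquiv, h4]
      · rw [Monoid.exponent_eq_of_mulEquiv eB]
        haveI : Nontrivial B := Finite.one_lt_card_iff_nontrivial.1 (by rw [h4]; norm_num)
        refine (Monoid.exponent_eq_prime_iff Nat.prime_two).2 fun b hb => ?_
        haveI : Fact (Nat.Prime 2) := ⟨Nat.prime_two⟩
        exact orderOf_eq_prime (Subtype.ext (by rw [sq]; exact hsq b b.2)) hb
    have htop := CfsgLib.KleinNine.normalizer_eq_top PL
      ⟨⟨⟨fun p q => Subtype.ext (Subtype.ext (H.comm (hPLmem.1 p.2) (hPLmem.1 q.2)))⟩⟩,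
        fun p hp => Subtype.ext (H.cube (hPLmem.1 hp))⟩ hPLcard hLcent hKl
      (fun t ht ht1 => by
        rw [hnL]
        intro c hc
        rw [mem_subgroupOf]
        exact H.loc (t : G) (hPLmem.1 ht) (fun e => ht1 (Subtype.ext e))
          (mem_centralizer_singleton_iff.2 (congrArg Subtype.val (mem_centralizer_singleton_iff.1 hc))))
    haveI : (PL : Subgroup L).Normal := normalizer_eq_top_iff.1 htop
    rcases IsSimpleGroup.eq_bot_or_eq_top_of_normal (PL : Subgroup L) inferInstance with h | h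
    · rw [h, card_bot] at hPLcard
      norm_num at hPLcard
    · refine hLna ⟨⟨fun p q => Subtype.ext ?_⟩⟩
      exact H.comm (hPLmem.1 (h ▸ mem_top p)) (hPLmem.1 (h ▸ mem_top q))
  -- the automizer in `L` is semiregular
  have hgood : ∀ b ∈ B, b * b ≠ 1 ∨ ∀ c : D8, c * b = b * c := by
    intro b hb
    rcases hBd with e | e | e | e
    · exact absurd e hB1
    · right
      intro c
      haveI : Fact (Nat.Prime 2) := ⟨Nat.prime_two⟩
      by_cases hb1 : b = 1
      · simp [hb1]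
      have hB2 : zpowers b = B := eq_of_le_of_card_ge (zpowers_le.2 hb) (by
        rw [e, Nat.card_zpowers]
        have h1 : orderOf b ≠ 1 := fun h => hb1 (orderOf_eq_one_iff.1 h)
        have := orderOf_pos b
        omega)
      have hob : b * b = 1 := by
        have := pow_card_eq_one' (x := (⟨b, hb⟩ : B))
        rw [e] at this
        have := congrArg Subtype.val this
        simpa [sq] using this
      obtain ⟨k, hk⟩ : c * b * c⁻¹ ∈ zpowers b := hB2.symm ▸ hBn b hb c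
      simp only at hk
      rcases Int.emod_two_eq_zero_or_one k with h | h
      · obtain ⟨m, rfl⟩ := Int.dvd_of_emod_eq_zero h
        rw [zpow_mul, zpow_ofNat, sq, hob, one_zpow] at hk
        exact absurd (conj_eq_one_iff.1 hk.symm) hb1
      · obtain ⟨m, rfl⟩ : ∃ m, k = 2 * m + 1 := ⟨k / 2, by omega⟩
        rw [zpow_add, zpow_mul, zpow_ofNat, sq, hob, one_zpow, one_mul, zpow_one] at hk
        exact mul_inv_eq_iff_eq_mul.1 hk.symm
    · obtain ⟨c, hc, hc2⟩ := hklein e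
      haveI : Fact (Nat.Prime 2) := ⟨Nat.prime_two⟩
      have ho : orderOf c = 4 := by
        refine orderOf_eq_prime_pow (p := 2) (n := 1) (by simpa [sq] using hc2) ?_
        have := d8_four c
        rwa [show (2 : ℕ) ^ (1 + 1) = 4 from rfl, show c ^ 4 = c * c * (c * c) by simp [pow_succ, mul_assoc]]
      have hBc : zpowers c = B := eq_of_le_of_card_ge (zpowers_le.2 hc) (by rw [e, Nat.card_zpowers, ho])
      obtain ⟨k, hk⟩ := mem_powers_iff_mem_zpowers.2 (hBc.symm ▸ hb : b ∈ zpowers c)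
      simp only at hk
      rw [← pow_mod_orderOf, ho] at hk
      rw [← hk]
      exact d8_cyclic c hc2 ⟨k % 4, Nat.mod_lt _ (by norm_num)⟩
    · exact absurd e hB8
  have hsemi : ∀ g ∈ H.N, g ∈ L → g ∉ H.S → ∀ x ∈ H.S, x ≠ 1 → g * x * g⁻¹ ≠ x := by
    intro g hg hgL hgS x hx hx1 e
    rcases hgood _ (hmemB g hg hgL) with h | h
    · have hgg : g * g ∈ H.N := H.N.mul_mem hg hg
      have hne : g * g ∉ H.S := fun hS => h (by rw [← map_mul]; exact (H.π_eq_one hgg).2 hS)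
      refine H.central_fpf hgg (fun c => ?_) hne hx hx1 ?_
      · have hsub : (⟨g * g, hgg⟩ : H.N) = ⟨g, hg⟩ * ⟨g, hg⟩ := Subtype.ext rfl
        rw [hsub, map_mul]
        exact d8_sq_comm _ c
      · calc g * g * x * (g * g)⁻¹ = g * (g * x * g⁻¹) * g⁻¹ := by group
          _ = x := by rw [e, e]
    · exact H.central_fpf hg h hgS hx hx1 e
  have hcentL : ∀ x ∈ H.S, x ≠ 1 → ∀ c ∈ L, c * x = x * c → c ∈ H.S := by
    intro x hx hx1 c hc hcx
    by_contra hcS
    refine hsemi c (H.loc x hx hx1 (mem_centralizer_singleton_iff.2 hcx)) hc hcS x hx hx1 ?_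
    rw [hcx, mul_inv_cancel_right]
  have hset : CfsgLib.ThreeNine.Setup (PL : Subgroup L) := by
    refine ⟨hPLcard, fun p hp => Subtype.ext (H.cube (hPLmem.1 hp)),
      fun p hp q hq => Subtype.ext (H.comm (hPLmem.1 hp) (hPLmem.1 hq)), fun s hs hs1 => ?_⟩
    ext c
    rw [mem_centralizer_singleton_iff, hPLmem]
    exact ⟨fun h => hcentL s (hPLmem.1 hs) (fun e => hs1 (Subtype.ext e)) c c.2 (congrArg Subtype.val h),
      fun h => Subtype.ext (H.comm h (hPLmem.1 hs))⟩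
  have hclasses : ∃ a b : L, orderOf a = 3 ∧ orderOf b = 3 ∧ ∀ g : L, g * a * g⁻¹ ≠ b := by
    by_contra hall
    push Not at hall
    obtain ⟨x, hx, hx1⟩ : ∃ x ∈ H.S, x ≠ 1 := by
      by_contra h
      push Not at h
      have := H.cardS
      rw [show H.S = ⊥ from eq_bot_iff_forall _ |>.2 h, card_bot] at this
      norm_num at this
    have hex : ∀ y : {y : H.S // y ≠ 1}, ∃ g, ∃ hg : g ∈ H.N, g ∈ L ∧ g * x * g⁻¹ = ((y : H.S) : G) := by
      rintro ⟨⟨y, hy⟩, hy1⟩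
      have hy1' : y ≠ 1 := fun e => hy1 (Subtype.ext e)
      obtain ⟨g, hg⟩ := hall ⟨x, hSL hx⟩ ⟨y, hSL hy⟩
        (by rw [Subgroup.orderOf_mk]; exact H.orderOf_eq_three hx hx1)
        (by rw [Subgroup.orderOf_mk]; exact H.orderOf_eq_three hy hy1')
      have hg' : (g : G) * x * (g : G)⁻¹ = y := congrArg Subtype.val hg
      exact ⟨g, H.mem_N_of_conj hx hx1 (hg'.symm ▸ hy), g.2, hg'⟩
    choose f hfN hfL hfx using hex
    have hinj : Function.Injective fun y => (⟨H.π ⟨f y, hfN y⟩, hmemB _ _ (hfL y)⟩ : B) := by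
      intro y z h
      have h' : H.π ⟨f y, hfN y⟩ = H.π ⟨f z, hfN z⟩ := congrArg Subtype.val h
      have hm : (f z)⁻¹ * f y ∈ H.N := H.N.mul_mem (inv_mem (hfN z)) (hfN y)
      have hS : (f z)⁻¹ * f y ∈ H.S := by
        rw [← H.π_eq_one hm, show (⟨(f z)⁻¹ * f y, hm⟩ : H.N) = ⟨f z, hfN z⟩⁻¹ * ⟨f y, hfN y⟩ from
          Subtype.ext rfl, map_mul, map_inv, h', inv_mul_cancel]
      refine Subtype.ext (Subtype.ext ?_)
      rw [← hfx y, ← hfx z]
      calc f y * x * (f y)⁻¹ = f z * (((f z)⁻¹ * f y) * x * ((f z)⁻¹ * f y)⁻¹) * (f z)⁻¹ := by group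
        _ = f z * x * (f z)⁻¹ := by rw [H.comm hS hx, mul_inv_cancel_right]
    have hle := Nat.card_le_card_of_injective _ hinj
    haveI := Fintype.ofFinite H.S
    rw [Nat.card_eq_fintype_card, Fintype.card_subtype_compl, Fintype.card_subtype_eq,
      ← Nat.card_eq_fintype_card, H.cardS] at hle
    have hd := Nat.le_of_dvd (by norm_num) (card_d8 ▸ B.card_subgroup_dvd_card)
    exact hB8 (by omega)
  obtain ⟨f⟩ := hset.iso_alternatingSix PL rfl hclasses
  have hL360 : Nat.card L = 360 := by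
    rw [Nat.card_congr f.toEquiv, nat_card_alternatingGroup, Nat.card_fin]
    norm_num [Nat.factorial]
  have hB4 : Nat.card B = 4 := by
    rcases hBd with e | e | e | e
    · exact absurd e hB1
    · exfalso
      have h := (normalizer ((PL : Subgroup L) : Set L)).index_mul_card
      rw [hNLcard, e, hL360] at h
      have hmod := card_sylow_modEq_one 3 L
      have h20 : (normalizer ((PL : Subgroup L) : Set L)).index = 20 := by omega
      rw [PL.card_eq_index_normalizer] at hmod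
      change (normalizer ((PL : Subgroup L) : Set L)).index ≡ 1 [MOD 3] at hmod
      rw [h20] at hmod
      norm_num [Nat.ModEq] at hmod
    · exact e
    · exact absurd e hB8
  have hidx : L.index = 2 := by
    have htop := Sylow.normalizer_sup_eq_top PL
    rw [hPL, subgroupOf_map_subtype, inf_eq_left.2 hSL] at htop
    have h1 : L.relIndex H.N = L.index := by
      rw [← relIndex_sup_right (H := H.N) (K := L), htop, relIndex_top_right]
    have h2 : Nat.card (L.subgroupOf H.N) = 36 := by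
      have e : Nat.card (L.subgroupOf H.N) = Nat.card (normalizer ((PL : Subgroup L) : Set L)) :=
        Nat.card_congr
          { toFun := fun g => ⟨⟨((g : H.N) : G), g.2⟩, hnL.ge (mem_subgroupOf.2 (g : H.N).2)⟩
            invFun := fun g => ⟨⟨((g : L) : G), mem_subgroupOf.1 (hnL.le g.2)⟩, (g : L).2⟩
            left_inv := fun _ => rfl
            right_inv := fun _ => rfl }
      rw [e, hNLcard, hB4]
    have h3 := card_mul_index (L.subgroupOf H.N)
    rw [h2, H.card_N] at h3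
    rw [← h1]
    show (L.subgroupOf H.N).index = 2
    omega
  -- an outer involution fixing a point
  obtain ⟨g, hg, hgS, x, hx, hx1, hgx⟩ := H.exists_fixing
  have hgL : g ∉ L := fun h => hsemi g hg h hgS x hx hx1 hgx
  have hggS : g * g ∈ H.S := by
    have hgg : g * g ∈ H.N := H.N.mul_mem hg hg
    by_contra hne
    refine H.central_fpf hgg (fun c => ?_) hne hx hx1 ?_
    · have hsub : (⟨g * g, hgg⟩ : H.N) = ⟨g, hg⟩ * ⟨g, hg⟩ := Subtype.ext rfl
      rw [hsub, map_mul]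
      exact d8_sq_comm _ c
    · calc g * g * x * (g * g)⁻¹ = g * (g * x * g⁻¹) * g⁻¹ := by group
        _ = x := by rw [hgx, hgx]
  set t := g ^ 9 with ht
  have htg : t = g * (g * g) ^ 4 := by rw [ht, ← sq, ← pow_mul, ← pow_succ']
  have htt : t * t = 1 := by
    rw [ht, ← pow_add, show 9 + 9 = 2 * 9 from rfl, pow_mul, sq]
    have := H.cube hggS
    rw [show (9 : ℕ) = 3 * 3 from rfl, pow_mul, this, one_pow]
  have htL : t ∉ L := fun h => hgL (by
    have h2 := L.mul_mem h (inv_mem (L.pow_mem (hSL hggS) 4))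
    rwa [htg, mul_inv_cancel_right] at h2)
  have htN : t ∈ H.N := H.N.pow_mem hg 9
  have htS : t ∉ H.S := fun h => htL (hSL h)
  have hti : t⁻¹ = t := inv_eq_of_mul_eq_one_right htt
  have htx : t * x * t⁻¹ = x := by
    have hgg : (g * g) ^ 4 * x * ((g * g) ^ 4)⁻¹ = x := by
      rw [H.comm (H.S.pow_mem hggS 4) hx, mul_inv_cancel_right]
    rw [htg]
    calc g * (g * g) ^ 4 * x * (g * (g * g) ^ 4)⁻¹ = g * ((g * g) ^ 4 * x * ((g * g) ^ 4)⁻¹) * g⁻¹ := by group
      _ = x := by rw [hgg, hgx]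
  -- an element of `L` inverting the Sylow subgroup and commuting with `t`
  obtain ⟨b, hb, hb2⟩ := hklein hB4
  obtain ⟨h0, hh0, hh0L, hπ⟩ := hBex (b * b) (mul_mem hb hb)
  have hh0c : ∀ c : D8, c * H.π ⟨h0, hh0⟩ = H.π ⟨h0, hh0⟩ * c := fun c => hπ ▸ d8_sq_comm b c
  have hh0S : h0 ∉ H.S := fun h => hb2 (hπ ▸ (H.π_eq_one hh0).2 h)
  have hh0inv : ∀ y ∈ H.S, h0 * y * h0⁻¹ = y⁻¹ := by
    refine H.central_inverts hh0 hh0c hh0S ?_
    have hm : h0 * h0 ∈ H.N := H.N.mul_mem hh0 hh0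
    rw [← H.π_eq_one hm, show (⟨h0 * h0, hm⟩ : H.N) = ⟨h0, hh0⟩ * ⟨h0, hh0⟩ from Subtype.ext rfl,
      map_mul, hπ]
    exact d8_four b
  obtain ⟨h, hhL, hht, hhinv⟩ : ∃ h ∈ L, h * t = t * h ∧ ∀ y ∈ H.S, h * y * h⁻¹ = y⁻¹ := by
    obtain ⟨s, hs⟩ : ∃ s, s = h0⁻¹ * (t * h0 * t⁻¹) := ⟨_, rfl⟩
    have hsS : s ∈ H.S := by
      have hm : h0⁻¹ * (t * h0 * t⁻¹) ∈ H.N :=
        H.N.mul_mem (inv_mem hh0) (H.N.mul_mem (H.N.mul_mem htN hh0) (inv_mem htN))
      rw [hs, ← H.π_eq_one hm]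
      have hsub : (⟨h0⁻¹ * (t * h0 * t⁻¹), hm⟩ : H.N)
          = ⟨h0, hh0⟩⁻¹ * (⟨t, htN⟩ * ⟨h0, hh0⟩ * ⟨t, htN⟩⁻¹) := Subtype.ext rfl
      rw [hsub, map_mul, map_mul, map_mul, map_inv, map_inv, hh0c, mul_inv_cancel_right, inv_mul_cancel]
    have hth : t * h0 * t⁻¹ = h0 * s := by rw [hs]; group
    have hts : t * s * t⁻¹ = s⁻¹ := by
      rw [eq_inv_iff_mul_eq_one, H.comm ((mem_normalizer_iff.1 htN s).1 hsS) hsS]
      have h4 : h0 * (s * (t * s * t⁻¹)) = h0 := by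
        calc h0 * (s * (t * s * t⁻¹)) = t * h0 * t⁻¹ * (t * s * t⁻¹) := by
              rw [hth]; simp only [mul_assoc]
          _ = t * (h0 * s) * t⁻¹ := by group
          _ = t * (t * h0 * t⁻¹) * t⁻¹ := by rw [hth]
          _ = (t * t) * h0 * (t * t)⁻¹ := by group
          _ = h0 := by rw [htt]; group
      exact mul_eq_left.1 h4
    refine ⟨h0 * (s * s), L.mul_mem hh0L (hSL (mul_mem hsS hsS)), ?_, fun y hy => ?_⟩
    · have e : t * (h0 * (s * s)) * t⁻¹ = h0 * (s * s) := by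
        calc t * (h0 * (s * s)) * t⁻¹ = t * h0 * t⁻¹ * (t * s * t⁻¹ * (t * s * t⁻¹)) := by group
          _ = h0 * s * (s⁻¹ * s⁻¹) := by rw [hth, hts]
          _ = h0 * (s * s) * (s ^ 3)⁻¹ := by simp [pow_succ, mul_assoc]
          _ = h0 * (s * s) := by rw [H.cube hsS, inv_one, mul_one]
      exact (mul_inv_eq_iff_eq_mul.1 e).symm
    · calc h0 * (s * s) * y * (h0 * (s * s))⁻¹ = h0 * ((s * s) * y * (s * s)⁻¹) * h0⁻¹ := by group
        _ = y⁻¹ := by rw [H.comm (mul_mem hsS hsS) hy, mul_inv_cancel_right, hh0inv y hy]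
  refine hne6.false (CfsgLib.S3222.iso_symSix hidx f htL (c := ⟨x, hSL hx⟩)
    (by rw [Subgroup.orderOf_mk]; exact H.orderOf_eq_three hx hx1) ?_ ?_ ?_).some
  · show x * t = t * x
    conv_lhs => rw [← htx, inv_mul_cancel_right]
  · by_contra hno
    push Not at hno
    refine htS ?_
    rw [← H.centS, mem_centralizer_iff]
    exact fun y _ => hno y
  · intro k hk hkt hkc
    have hkx : k * x = x * k := hkc x (hSL hx) (by
      conv_lhs => rw [← htx, inv_mul_cancel_right])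
    have hkS : k ∈ H.S := hcentL x hx hx1 k hk hkx
    have hkh := hkc h hhL hht
    have e := hhinv k hkS
    rw [← hkh, mul_inv_cancel_right] at e
    have h2 : k * k = 1 := by nth_rewrite 2 [e]; exact mul_inv_cancel k
    have h3 := H.cube hkS
    rw [pow_succ, sq, h2, one_mul] at h3
    exact h3

end Hyp

/-- Construction of the hypotheses from an isomorphism of the automizer. -/
theorem exists_hyp {G : Type u} [Group G] [Finite G] (P : Sylow 3 G)
    (hcard : Nat.card (P : Subgroup G) = 9)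
    (hC : centralizer ((P : Subgroup G) : Set G) = (P : Subgroup G))
    (eN : ↥(normalizer ((P : Subgroup G) : Set G)) ⧸
      (P : Subgroup G).subgroupOf (normalizer ((P : Subgroup G) : Set G)) ≃* D8)
    (hcent : ∀ x ∈ (P : Subgroup G), x ≠ 1 →
      centralizer ({x} : Set G) ≤ normalizer ((P : Subgroup G) : Set G)) :
    ∃ H : Hyp G, H.P = P := by
  haveI : ((P : Subgroup G).subgroupOf (normalizer ((P : Subgroup G) : Set G))).Normal :=
    normal_in_normalizer
  refine ⟨⟨P, hcard, hC, eN.toMonoidHom.comp (QuotientGroup.mk' _), ?_, ?_, hcent⟩, rfl⟩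
  · exact eN.surjective.comp (QuotientGroup.mk'_surjective _)
  · ext g
    simp [QuotientGroup.eq_one_iff]

namespace Hyp

variable {G : Type u} [Group G] [Finite G] (H : Hyp G)

/-- The Sylow 2-subgroups of the normalizer are dihedral. -/
theorem sylow_two_dihedral (S₂ : Sylow 2 H.N) : Nonempty (↥(S₂ : Subgroup H.N) ≃* D8) := by
  haveI : Fact (Nat.Prime 2) := ⟨Nat.prime_two⟩
  have h8 : Nat.card (S₂ : Subgroup H.N) = 8 := by
    rw [S₂.card_eq_multiplicity, H.card_N, show (72 : ℕ) = 2 ^ 3 * 9 by norm_num,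
      Nat.factorization_mul (by norm_num) (by norm_num), Finsupp.add_apply,
      Nat.Prime.factorization_pow (by norm_num),
      Nat.factorization_eq_zero_of_not_dvd (show ¬ 2 ∣ 9 by norm_num), Finsupp.single_eq_same]
    norm_num
  let r := H.π.comp (S₂ : Subgroup H.N).subtype
  have hinj : Function.Injective r := by
    refine (injective_iff_map_eq_one r).2 fun g hg => ?_
    have hS : ((g : H.N) : G) ∈ H.S := (H.π_eq_one (g : H.N).2).1 hg
    have h3 : orderOf g ∣ 3 := orderOf_dvd_of_pow_eq_one (Subtype.ext (Subtype.ext (H.cube hS)))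
    have h8' : orderOf g ∣ 8 := h8 ▸ orderOf_dvd_natCard g
    exact orderOf_eq_one_iff.1 (Nat.eq_one_of_dvd_coprimes (by norm_num : Nat.Coprime 3 8) h3 h8')
  exact ⟨MulEquiv.ofBijective r ((Nat.bijective_iff_injective_and_card r).2 ⟨hinj, by rw [h8, card_d8]⟩)⟩

end Hyp

end CfsgLib.ThreeNineSix
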