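import Cfsg.Agent.ThreeNine.Bound
import Cfsg.Agent.SmallSimple.OrderBound.Sweep
import Cfsg.Agent.InvChar.ThreeSixty

/-!
# Simple groups with a strongly self-centralising Sylow 3-subgroup of order nine and several classes of
elements of order three
-/

set_option autoImplicit false
set_option linter.style.haveILetI false

namespace CfsgLib.ThreeNine

variable {G : Type*} [Group G] [Finite G]

theorem Setup.iso_alternatingSix [IsSimpleGroup G] {S : Subgroup G} (h : Setup S) (P : Sylow 3 G) (hSP : S = P)
    (hclasses : ∃ a b : G, orderOf a = 3 ∧ orderOf b = 3 ∧ ∀ g : G, g * a * g⁻¹ ≠ b) :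
    Nonempty (G ≃* alternatingGroup (Fin 6)) := by
  classical
  have h9 : 9 ∣ Nat.card G := h.card ▸ Subgroup.card_subgroup_dvd_card S
  have hG : ¬ IsMulCommutative G := by
    intro hc
    obtain ⟨a, b, -⟩ := hclasses
    rcases IsSimpleGroup.eq_bot_or_eq_top_of_normal S ⟨fun x hx g => by
      rw [mul_comm' g x, mul_inv_cancel_right]; exact hx⟩ with e | e
    · have := h.card; rw [e, Subgroup.card_bot] at this; omega
    · obtain ⟨s, hs⟩ := exists_prime_orderOf_dvd_card' (G := G) 3 ((by norm_num : 3 ∣ 9).trans h9)
      rcases IsSimpleGroup.eq_bot_or_eq_top_of_normal (Subgroup.zpowers s) ⟨fun x hx g => by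
        rw [mul_comm' g x, mul_inv_cancel_right]; exact hx⟩ with e' | e'
      · rw [Subgroup.zpowers_eq_bot] at e'
        rw [e', orderOf_one] at hs; omega
      · have h3 := Nat.card_zpowers s
        rw [e', ← e, h.card, hs] at h3; omega
  haveI := Fintype.ofFinite G
  rcases h.exists_fusion hG P hSP hclasses with ⟨f, hf⟩ | ⟨hN, f, hf⟩
  · obtain ⟨d, V, o, T⟩ := h.exists_table hG hf (fun p _ => Or.inr rfl)
    have hle := T.le_of_relTwo Nat.card_pos
    rcases CfsgLib.OrderBound.card_of_le hG (by omega) with e | e | e | e | e | e <;> omega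
  · obtain ⟨d, V, o, T⟩ := h.exists_table hG hf (fun p _ => by
      unfold RelFour; simp)
    have hle := T.le_of_relFour Nat.card_pos
    rcases CfsgLib.OrderBound.card_of_le hG (by omega) with e | e | e | e | e | e <;>
      try (rw [e] at h9; omega)
    · exact CfsgLib.InvChar.iso_alternatingSix e
    · exfalso
      have h1 := CfsgLib.SmallSimple.card_sylow_mul P
      rw [← hSP, hN, e] at h1
      have h2 := card_sylow_modEq_one 3 G
      rw [show Nat.card (Sylow 3 G) = 14 by omega] at h2
      exact absurd h2 (by decide)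

end CfsgLib.ThreeNine
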