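import Mathlib

/-!
# A strongly self-centralising elementary abelian subgroup of order nine: group theory

If `S` is elementary abelian of order `9` with `C(s) = S` for all non-identity `s ∈ S`, then two
elements of order dividing three whose product `c` lies in `S` either both lie in `S` or are both
conjugate to `c⁻¹` (they generate a quotient of the triangle group `(3,3,3)`).
-/

set_option autoImplicit false
set_option linter.style.haveILetI false
set_option linter.unusedSectionVars false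

namespace CfsgLib.ThreeNine

variable {G : Type*} [Group G] [Finite G]

/-- The standing hypotheses on `S`. -/
structure Setup (S : Subgroup G) : Prop where
  card : Nat.card S = 9
  cube : ∀ a ∈ S, a ^ 3 = 1
  comm : ∀ a ∈ S, ∀ b ∈ S, a * b = b * a
  cent : ∀ s ∈ S, s ≠ 1 → Subgroup.centralizer ({s} : Set G) = S

namespace Setup

variable {S : Subgroup G} (h : Setup S)
include h

theorem mem_of_commute {s g : G} (hs : s ∈ S) (h1 : s ≠ 1) (hg : g * s = s * g) : g ∈ S := by
  rw [← h.cent s hs h1]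
  exact Subgroup.mem_centralizer_singleton_iff.2 hg

theorem card_centralizer {s : G} (hs : s ∈ S) (h1 : s ≠ 1) :
    Nat.card (Subgroup.centralizer ({s} : Set G)) = 9 := by rw [h.cent s hs h1, h.card]

/-- Conjugation between non-identity elements of `S` is performed inside the normaliser. -/
theorem mem_normalizer_of_conj {s g : G} (hs : s ∈ S) (h1 : s ≠ 1) (hg : g * s * g⁻¹ ∈ S) :
    g ∈ Subgroup.normalizer (S : Set G) := by
  have h1' : g * s * g⁻¹ ≠ 1 := fun e => h1 (by simpa using e)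
  rw [Subgroup.mem_normalizer_iff]
  intro x
  constructor
  · intro hx
    refine h.mem_of_commute hg h1' ?_
    calc g * x * g⁻¹ * (g * s * g⁻¹) = g * (x * s) * g⁻¹ := by group
      _ = g * (s * x) * g⁻¹ := by rw [h.comm x hx s hs]
      _ = _ := by group
  · intro hx
    refine h.mem_of_commute hs h1 ?_
    calc x * s = g⁻¹ * (g * x * g⁻¹ * (g * s * g⁻¹)) * g := by group
      _ = g⁻¹ * (g * s * g⁻¹ * (g * x * g⁻¹)) * g := by rw [h.comm _ hx _ hg]
      _ = _ := by group

/-- The triangle lemma. -/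
theorem triangle {a b c : G} (ha : a ^ 3 = 1) (hb : b ^ 3 = 1) (hc : c ∈ S) (hc1 : c ≠ 1)
    (hab : a * b = c) : (a ∈ S ∧ b ∈ S) ∨ (IsConj a c⁻¹ ∧ IsConj b c⁻¹) := by
  have ha' : a * a * a = 1 := by rw [← ha, pow_succ, pow_two]
  have hb' : b * b * b = 1 := by rw [← hb, pow_succ, pow_two]
  have hc' : c * c * c = 1 := by rw [← h.cube c hc, pow_succ, pow_two]
  have ai : a⁻¹ = a * a := inv_eq_of_mul_eq_one_left ha'
  have bi : b⁻¹ = b * b := inv_eq_of_mul_eq_one_left hb'
  set x : G := a⁻¹ * b with hx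
  set y : G := b * a⁻¹ with hy
  have habab : a * b * (a * b) * (a * b) = 1 := by rw [hab]; exact hc'
  have hbab : b * a * b = a⁻¹ * b⁻¹ * a⁻¹ := by
    calc b * a * b = a⁻¹ * (a * b * (a * b) * (a * b)) * b⁻¹ * a⁻¹ := by group
      _ = _ := by rw [habab, mul_one]
  have hxy : x * y = a * a * (b * b) * (a * a) := by
    rw [hx, hy, ← ai, ← bi]
    calc a⁻¹ * b * (b * a⁻¹) = a⁻¹ * (b * b) * a⁻¹ := by group
      _ = _ := by rw [← bi]
  have hyx : y * x = a * a * (b * b) * (a * a) := by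
    rw [hx, hy, ← ai, ← bi]
    calc b * a⁻¹ * (a⁻¹ * b) = b * (a⁻¹ * a⁻¹) * b := by group
      _ = b * a * b := by
          rw [show a⁻¹ * a⁻¹ = a by rw [← mul_inv_rev, ← ai, inv_inv]]
      _ = _ := hbab
  have hcomm : x * y = y * x := hxy.trans hyx.symm
  set A := Subgroup.closure ({x, y} : Set G) with hA
  haveI : IsMulCommutative A := Subgroup.isMulCommutative_closure (by
    rintro u (rfl | rfl) v (rfl | rfl)
    · rfl
    · exact hcomm
    · exact hcomm.symm
    · rfl)
  have hAc : ∀ u ∈ A, ∀ v ∈ A, u * v = v * u := fun u hu v hv => setLike_mul_comm (S := Subgroup G) hu hv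
  have hxA : x ∈ A := Subgroup.subset_closure (Or.inl rfl)
  have hyA : y ∈ A := Subgroup.subset_closure (Or.inr rfl)
  have hax : a * x * a⁻¹ = y := by rw [hx, hy]; group
  have hay : a * y * a⁻¹ = (x * y)⁻¹ := by
    rw [hxy, ← ai, ← bi, hy]
    calc a * (b * a⁻¹) * a⁻¹ = a * b * (a⁻¹ * a⁻¹) := by group
      _ = a * b * a := by rw [show a⁻¹ * a⁻¹ = a by rw [← mul_inv_rev, ← ai, inv_inv]]
      _ = _ := by group
  have hconj : ∀ u ∈ A, a * u * a⁻¹ ∈ A := by
    intro u hu
    have hle : A ≤ A.comap (MulAut.conj a).toMonoidHom := by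
      rw [hA, Subgroup.closure_le]
      rintro v (rfl | rfl) <;>
        simp only [SetLike.mem_coe, Subgroup.mem_comap, MulEquiv.coe_toMonoidHom, MulAut.conj_apply,
          ← hA]
      · rw [hax]; exact hyA
      · rw [hay]; exact inv_mem (mul_mem hxA hyA)
    simpa using hle hu
  have hconj' : ∀ u ∈ A, a⁻¹ * u * a ∈ A := by
    intro u hu
    have := hconj _ (hconj u hu)
    convert this using 1
    calc a⁻¹ * u * a = a * a * u * (a * a)⁻¹ := by rw [← ai, inv_inv]
      _ = _ := by group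
  have hb_eq : b = a * x := by rw [hx]; group
  have hc_eq : c = a⁻¹ * x := by
    rw [← hab, hb_eq, ← mul_assoc, ← ai]
  have hcu : ∀ u ∈ A, c * u * c⁻¹ = a⁻¹ * u * a := by
    intro u hu
    rw [hc_eq]
    calc a⁻¹ * x * u * (a⁻¹ * x)⁻¹ = a⁻¹ * (x * u * x⁻¹) * a := by group
      _ = _ := by rw [hAc x hxA u hu, mul_inv_cancel_right]
  by_cases hfix : ∃ z ∈ A, z ≠ 1 ∧ z * c = c * z
  · obtain ⟨z, hzA, hz1, hzc⟩ := hfix
    have hzS : z ∈ S := h.mem_of_commute hc hc1 hzc
    have hxS : x ∈ S := h.mem_of_commute hzS hz1 (hAc x hxA z hzA)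
    have e : a⁻¹ * z * a = z := by
      rw [← hcu z hzA, ← hzc]
      group
    have haS : a ∈ S := h.mem_of_commute hzS hz1 (by
      calc a * z = a * (a⁻¹ * z * a) := by rw [e]
        _ = z * a := by group)
    exact Or.inl ⟨haS, hb_eq ▸ mul_mem haS hxS⟩
  · push Not at hfix
    have hmemc : ∀ u ∈ A, c * u * c⁻¹ ∈ A := fun u hu => by rw [hcu u hu]; exact hconj' u hu
    let ψ : A → A := fun z => ⟨c * z * c⁻¹ * (z : G)⁻¹, mul_mem (hmemc _ z.2) (inv_mem z.2)⟩
    have hinj : Function.Injective ψ := by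
      intro z w hzw
      have e : c * (z : G) * c⁻¹ * (z : G)⁻¹ = c * (w : G) * c⁻¹ * (w : G)⁻¹ := congrArg Subtype.val hzw
      have e1 : c * ((z : G) * (w : G)⁻¹) * c⁻¹ = (z : G) * (w : G)⁻¹ := by
        calc c * ((z : G) * (w : G)⁻¹) * c⁻¹
            = (c * (z : G) * c⁻¹) * (c * (w : G) * c⁻¹)⁻¹ := by group
          _ = (c * (z : G) * c⁻¹ * (z : G)⁻¹ * z) * (c * (w : G) * c⁻¹)⁻¹ := by group
          _ = (c * (w : G) * c⁻¹ * ((w : G)⁻¹ * z)) * (c * (w : G) * c⁻¹)⁻¹ := by rw [e]; group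
          _ = (((w : G)⁻¹ * z) * (c * (w : G) * c⁻¹)) * (c * (w : G) * c⁻¹)⁻¹ := by
              rw [hAc _ (hmemc _ w.2) _ (mul_mem (inv_mem w.2) z.2)]
          _ = (w : G)⁻¹ * z := by group
          _ = _ := hAc _ (inv_mem w.2) _ z.2
      by_contra hne
      refine hfix _ (mul_mem z.2 (inv_mem w.2)) (fun e2 => hne (Subtype.ext (mul_inv_eq_one.1 e2))) ?_
      calc (z : G) * (w : G)⁻¹ * c = c * ((z : G) * (w : G)⁻¹) * c⁻¹ * c := by rw [e1]
        _ = _ := by group
    have hsurj := Finite.surjective_of_injective hinj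
    have hcl : ∀ u ∈ A, IsConj (c⁻¹ * u) c⁻¹ := by
      intro u hu
      obtain ⟨z, hz⟩ := hsurj ⟨u, hu⟩
      have e : c * (z : G) * c⁻¹ * (z : G)⁻¹ = u := congrArg Subtype.val hz
      refine isConj_iff.2 ⟨(z : G)⁻¹, ?_⟩
      rw [← e]
      group
    refine Or.inr ⟨?_, ?_⟩
    · have ea : a = c⁻¹ * (c * x * c⁻¹) := by
        rw [hc_eq]; group
      rw [ea]
      exact hcl _ (hmemc x hxA)
    · have eb : b = c⁻¹ * (c * x * c⁻¹ * x) := by
        rw [hb_eq, hc_eq]; group
      rw [eb]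
      exact hcl _ (mul_mem (hmemc x hxA) hxA)

end Setup

end CfsgLib.ThreeNine
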