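import Cfsg.Agent.ThreeNine.Chars

/-!
# A strongly self-centralising subgroup of order nine: the order is small
-/

set_option autoImplicit false
set_option linter.style.haveILetI false

namespace CfsgLib.ThreeNine

open Finset

variable {ι : Type*} [DecidableEq ι] {n : ℕ} {I : Finset ι}
  {R : ZMod 3 × ZMod 3 → ZMod 3 × ZMod 3 → Prop} [DecidableRel R]
  {d : ι → ℤ} {V : ι → ZMod 3 × ZMod 3 → ℤ} {o : ι}

theorem exists_pair (z : ι → ℤ) (hz : ∑ χ ∈ I, z χ * z χ = 2) (hd : ∀ χ ∈ I, 1 ≤ d χ)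
    (hdz : ∑ χ ∈ I, d χ * z χ = 0) :
    ∃ a ∈ I, ∃ b ∈ I, a ≠ b ∧ z a = 1 ∧ z b = -1 ∧ d a = d b ∧ ∀ χ ∈ I, χ ≠ a → χ ≠ b → z χ = 0 := by
  obtain ⟨a, ha, hane⟩ := exists_ne_zero_of_sum_ne_zero (by rw [hz]; norm_num : ∑ χ ∈ I, z χ * z χ ≠ 0)
  rw [← add_sum_erase _ _ ha] at hz
  have hnn : ∀ s : Finset ι, 0 ≤ ∑ χ ∈ s, z χ * z χ := fun s => sum_nonneg fun χ _ => mul_self_nonneg _
  have hsa : z a * z a = 1 := by
    have h1 : 0 < z a * z a := lt_of_le_of_ne (mul_self_nonneg _) (Ne.symm hane)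
    have h2 : z a * z a ≤ 2 := by linarith [hnn (I.erase a)]
    have : -1 ≤ z a ∧ z a ≤ 1 := ⟨by nlinarith, by nlinarith⟩
    rcases (show z a = -1 ∨ z a = 0 ∨ z a = 1 by omega) with e | e | e <;> rw [e] at h1 ⊢ <;> norm_num at *
  obtain ⟨b, hb, hbne⟩ := exists_ne_zero_of_sum_ne_zero
    (show ∑ χ ∈ I.erase a, z χ * z χ ≠ 0 by omega)
  rw [← add_sum_erase _ _ hb, hsa] at hz
  have hsb : z b * z b = 1 := by
    have h1 : 0 < z b * z b := lt_of_le_of_ne (mul_self_nonneg _) (Ne.symm hbne)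
    have h2 := hnn ((I.erase a).erase b)
    linarith
  have hrest : ∀ χ ∈ (I.erase a).erase b, z χ = 0 := fun χ hχ =>
    mul_self_eq_zero.1 ((sum_eq_zero_iff_of_nonneg fun χ _ => mul_self_nonneg (z χ)).1 (by linarith) χ hχ)
  rw [← add_sum_erase _ _ ha, ← add_sum_erase _ _ hb,
    sum_eq_zero fun χ hχ => by rw [hrest χ hχ, mul_zero], add_zero] at hdz
  have hb' := mem_erase.1 hb
  have hda := hd a ha
  have hdb := hd b hb'.2
  have ea : z a = 1 ∨ z a = -1 := mul_self_eq_one_iff.1 hsa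
  have eb : z b = 1 ∨ z b = -1 := mul_self_eq_one_iff.1 hsb
  have hz' : ∀ χ ∈ I, χ ≠ a → χ ≠ b → z χ = 0 := fun χ hχ h1 h2 =>
    hrest χ (mem_erase.2 ⟨h2, mem_erase.2 ⟨h1, hχ⟩⟩)
  rcases ea with ea | ea <;> rcases eb with eb | eb <;> rw [ea, eb] at hdz
  · exfalso; linarith
  · exact ⟨a, ha, b, hb'.2, Ne.symm hb'.1, ea, eb, by linarith, hz'⟩
  · exact ⟨b, hb'.2, a, ha, hb'.1, eb, ea, by linarith, fun χ hχ h1 h2 => hz' χ hχ h2 h1⟩
  · exfalso; linarith

/-- Two exceptional characters attached to two unfused lines. -/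
theorem Table.exceptional (T : Table n I R d V o) {p q : ZMod 3 × ZMod 3} (hp : p ≠ 0) (hq : q ≠ 0)
    (hpq : ¬ R p q) (hpp : R p p) (hqq : R q q) :
    ∃ a ∈ I, ∃ b ∈ I, a ≠ b ∧ a ≠ o ∧ b ≠ o ∧ d a = d b ∧ V a p - V a q = 3 ∧ V b q = V a p ∧
      V b p = V a q ∧ ∀ χ ∈ I, χ ≠ a → χ ≠ b → V χ p = V χ q := by
  have h3 : ∀ χ, ∃ z : ℤ, χ ∈ I → V χ p - V χ q = 3 * z := by
    intro χ
    by_cases hχ : χ ∈ I
    · obtain ⟨u, hu⟩ := T.congr3 χ hχ q hq
      obtain ⟨v, hv⟩ := T.congr3 χ hχ p hp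
      exact ⟨u - v, fun _ => by linarith⟩
    · exact ⟨0, fun e => absurd e hχ⟩
  choose z hz using h3
  have o1 := T.orth p p hp hp
  have o2 := T.orth q q hq hq
  have o3 := T.orth p q hp hq
  rw [if_pos hpp] at o1
  rw [if_pos hqq] at o2
  rw [if_neg hpq] at o3
  have hsq : ∑ χ ∈ I, z χ * z χ = 2 := by
    have : 9 * ∑ χ ∈ I, z χ * z χ = 18 := by
      rw [mul_sum, sum_congr rfl fun χ hχ => show 9 * (z χ * z χ) = V χ p * V χ p + V χ q * V χ q - 2 * (V χ p * V χ q) by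
        linear_combination -(V χ p - V χ q + 3 * z χ) * hz χ hχ]
      rw [sum_sub_distrib, sum_add_distrib, ← mul_sum, o1, o2, o3]; norm_num
    linarith
  have hd1 : ∀ χ ∈ I, 1 ≤ d χ := fun χ hχ => by
    by_cases e : χ = o
    · rw [e, T.triv.2.1]
    · linarith [T.deg χ hχ e]
  have hdz : ∑ χ ∈ I, d χ * z χ = 0 := by
    have : 3 * ∑ χ ∈ I, d χ * z χ = 0 := by
      rw [mul_sum, sum_congr rfl fun χ hχ => show 3 * (d χ * z χ) = d χ * V χ p - d χ * V χ q by
        linear_combination -(d χ) * hz χ hχ]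
      rw [sum_sub_distrib, T.degOrth p hp, T.degOrth q hq, sub_zero]
    linarith
  obtain ⟨a, ha, b, hb, hab, za, zb, hdab, hrest⟩ := exists_pair z hsq hd1 hdz
  have hzo : z o = 0 := by
    have := hz o T.triv.1
    rw [T.triv.2.2 p hp, T.triv.2.2 q hq] at this
    linarith
  have hao : a ≠ o := fun e => by rw [← e, za] at hzo; norm_num at hzo
  have hbo : b ≠ o := fun e => by rw [← e, zb] at hzo; norm_num at hzo
  have hreq : ∀ χ ∈ I, χ ≠ a → χ ≠ b → V χ p = V χ q := fun χ hχ h1 h2 => by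
    have := hz χ hχ; rw [hrest χ hχ h1 h2] at this; linarith
  have e1 := hz a ha
  have e2 := hz b hb
  rw [za] at e1
  rw [zb] at e2
  have hkey : ∑ χ ∈ I, (V χ p * V χ p - V χ q * V χ q) = 0 := by rw [sum_sub_distrib, o1, o2, sub_self]
  rw [← add_sum_erase _ _ ha, ← add_sum_erase _ _ (mem_erase.2 ⟨hab.symm, hb⟩),
    sum_eq_zero fun χ hχ => by
      simp only [mem_erase] at hχ
      rw [hreq χ hχ.2.2 hχ.2.1 hχ.1, sub_self]] at hkey
  have hlin : 3 * (V a p + V a q) - 3 * (V b p + V b q) = 0 := by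
    linear_combination hkey - (V a p + V a q) * e1 - (V b p + V b q) * e2
  exact ⟨a, ha, b, hb, hab, hao, hbo, hdab, by linarith, by linarith, by linarith, hreq⟩

theorem sum_three {M : Type*} [AddCommMonoid M] {a b : ι} (ha : a ∈ I) (hb : b ∈ I) (ho : o ∈ I)
    (hab : a ≠ b) (hao : a ≠ o) (hbo : b ≠ o) (F : ι → M) :
    ∑ χ ∈ I, F χ = F o + (F a + (F b + ∑ χ ∈ ((I.erase o).erase a).erase b, F χ)) := by
  rw [← add_sum_erase _ _ ho, ← add_sum_erase _ _ (mem_erase.2 ⟨hao, ha⟩),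
    ← add_sum_erase _ _ (mem_erase.2 ⟨hab.symm, mem_erase.2 ⟨hbo, hb⟩⟩)]

/-- If no two lines are fused then the order is at most `36`. -/
theorem Table.le_of_relTwo {n : ℕ} (hn0 : 0 < n) (T : Table n I RelTwo d V o) : n ≤ 36 := by
  set p : ZMod 3 × ZMod 3 := (1, 0) with hp'
  set q : ZMod 3 × ZMod 3 := (0, 1) with hq'
  set r : ZMod 3 × ZMod 3 := (1, 1) with hr'
  have hp : p ≠ 0 := by rw [hp']; decide
  have hq : q ≠ 0 := by rw [hq']; decide
  have hr : r ≠ 0 := by rw [hr']; decide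
  obtain ⟨a, ha, b, hb, hab, hao, hbo, hdab, hdiff, hbq, hbp, hrest⟩ :=
    T.exceptional hp hq (by rw [hp', hq']; decide) (by rw [hp']; decide) (by rw [hq']; decide)
  have o13 := T.orth p r hp hr
  have o23 := T.orth q r hq hr
  have o11 := T.orth p p hp hp
  have o33 := T.orth r r hr hr
  rw [if_neg (by rw [hp', hr']; decide)] at o13
  rw [if_neg (by rw [hq', hr']; decide)] at o23
  rw [if_pos (by rw [hp']; decide)] at o11
  rw [if_pos (by rw [hr']; decide)] at o33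
  have h3 := sum_three ha hb T.triv.1 hab hao hbo (fun χ => (V χ p - V χ q) * V χ r)
  rw [show ∑ χ ∈ I, (V χ p - V χ q) * V χ r = 0 by simp only [sub_mul, sum_sub_distrib, o13, o23, sub_zero],
    T.triv.2.2 p hp, T.triv.2.2 q hq, sum_eq_zero fun χ hχ => by
      simp only [mem_erase] at hχ
      rw [hrest χ hχ.2.2.2 hχ.2.1 hχ.1, sub_self, zero_mul]] at h3
  have hk : V b r = V a r := by
    rw [hbp, hbq, hdiff, show V a q - V a p = -3 by linarith] at h3
    linarith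
  have hm2 : 1 + V a p * V a p + V a q * V a q ≤ 9 := by
    have := sum_three ha hb T.triv.1 hab hao hbo (fun χ => V χ p * V χ p)
    rw [o11, T.triv.2.2 p hp, hbp] at this
    have : 0 ≤ ∑ χ ∈ ((I.erase o).erase a).erase b, V χ p * V χ p := sum_nonneg fun χ _ => mul_self_nonneg _
    linarith
  have hk2 : 1 + 2 * (V a r * V a r) ≤ 9 := by
    have := sum_three ha hb T.triv.1 hab hao hbo (fun χ => V χ r * V χ r)
    rw [o33, T.triv.2.2 r hr, hk] at this
    have : 0 ≤ ∑ χ ∈ ((I.erase o).erase a).erase b, V χ r * V χ r := sum_nonneg fun χ _ => mul_self_nonneg _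
    linarith
  -- the square of `V p - V q` against the columns of `r` and of `p`
  have hsquare : ∀ s : ZMod 3 × ZMod 3,
      ∑ χ ∈ I, (((V χ p * V χ p * V χ s : ℤ) : ℚ) / d χ + ((V χ q * V χ q * V χ s : ℤ) : ℚ) / d χ -
        2 * (((V χ p * V χ q * V χ s : ℤ) : ℚ) / d χ)) = 9 * ((V a s + V b s : ℤ) : ℚ) / d a := by
    intro s
    rw [sum_congr rfl (g := fun χ => (((V χ p - V χ q) ^ 2 * V χ s : ℤ) : ℚ) / d χ) fun χ _ => by push_cast; ring,
      sum_three ha hb T.triv.1 hab hao hbo, T.triv.2.2 p hp, T.triv.2.2 q hq, sum_eq_zero fun χ hχ => by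
        simp only [mem_erase] at hχ
        simp [hrest χ hχ.2.2.2 hχ.2.1 hχ.1], hdab, hbp, hbq, show V a q - V a p = -3 by linarith, hdiff]
    push_cast; ring
  have hK := hsquare r
  rw [sum_sub_distrib, sum_add_distrib, ← mul_sum,
    T.classes p p r hp hp hr (by rw [hp', hr']; decide), T.classes q q r hq hq hr (by rw [hq', hr']; decide),
    T.classes p q r hp hq hr (by rw [hp', hq', hr']; decide),
    show count RelTwo p p r = 0 by rw [hp', hr']; decide, show count RelTwo q q r = 0 by rw [hq', hr']; decide,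
    show count RelTwo p q r = 1 by rw [hp', hq', hr']; decide, hk] at hK
  have hP := hsquare p
  rw [sum_sub_distrib, sum_add_distrib, ← mul_sum, T.classes q q p hq hq hp (by rw [hp', hq']; decide),
    show count RelTwo q q p = 0 by rw [hp', hq']; decide,
    sum_congr rfl (g := fun χ => ((V χ p * V χ p * V χ q : ℤ) : ℚ) / d χ)
      (fun χ _ => show ((V χ p * V χ q * V χ p : ℤ) : ℚ) / d χ = _ by push_cast; ring),
    T.classes p p q hp hp hq (by rw [hp', hq']; decide),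
    show count RelTwo p p q = 0 by rw [hp', hq']; decide, hbp] at hP
  have hnn := T.nonneg p hp
  push_cast at hK hP hnn
  ring_nf at hK hP hnn
  have hf2 : 2 ≤ d a := T.deg a ha hao
  have hfpos : (0 : ℚ) < (d a : ℚ)⁻¹ := inv_pos.2 (by exact_mod_cast lt_of_lt_of_le two_pos hf2)
  have hnpos : (0 : ℚ) < (n : ℚ)⁻¹ := inv_pos.2 (by exact_mod_cast hn0)
  have hk0 : V a r < 0 := by
    by_contra hge
    have : (0 : ℚ) ≤ (V a r : ℚ) := by exact_mod_cast not_lt.1 hge
    nlinarith [mul_nonneg this hfpos.le]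
  have hs0 : 0 ≤ V a p + V a q := by
    by_contra hlt
    have : (V a p : ℚ) + V a q < 0 := by exact_mod_cast not_le.1 hlt
    nlinarith [mul_neg_of_neg_of_pos this hfpos]
  have hmk : (3 : ℤ) ∣ V a p - V a r := by
    obtain ⟨u, hu⟩ := T.congr3 a ha p hp
    obtain ⟨v, hv⟩ := T.congr3 a ha r hr
    exact ⟨v - u, by linarith⟩
  have hm1 : 1 ≤ V a p ∧ V a p ≤ 2 := by
    have e : V a q = V a p - 3 := by linarith
    rw [e] at hm2
    constructor <;> nlinarith
  have hk1 : -2 ≤ V a r := by nlinarith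
  have hres : V a r = -1 := by omega
  -- hence `n = 9 * d a`
  have hn : (n : ℚ) = 9 * (d a : ℚ) := by
    rw [hres] at hK
    have hK' : (162 : ℚ) * (n : ℚ)⁻¹ = 18 * (d a : ℚ)⁻¹ := by push_cast at hK; linarith
    field_simp at hK'
    linarith
  have hn' : (n : ℤ) = 9 * d a := by exact_mod_cast hn
  have hsq := sum_three ha hb T.triv.1 hab hao hbo (fun χ => d χ * d χ)
  rw [T.sq, T.triv.2.1, ← hdab] at hsq
  have : 0 ≤ ∑ χ ∈ ((I.erase o).erase a).erase b, d χ * d χ := sum_nonneg fun χ _ => mul_self_nonneg _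
  have h4 : d a ≤ 4 := by nlinarith
  omega

/-- If two pairs of lines are fused then the order is at most `720`. -/
theorem Table.le_of_relFour {n : ℕ} (hn0 : 0 < n) (T : Table n I RelFour d V o) : n ≤ 720 := by
  set p : ZMod 3 × ZMod 3 := (1, 0) with hp'
  set q : ZMod 3 × ZMod 3 := (1, 1) with hq'
  have hp : p ≠ 0 := by rw [hp']; decide
  have hq : q ≠ 0 := by rw [hq']; decide
  obtain ⟨a, ha, b, hb, hab, hao, hbo, hdab, hdiff, hbq, hbp, hrest⟩ :=
    T.exceptional hp hq (by rw [hp', hq']; decide) (by rw [hp']; decide) (by rw [hq']; decide)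
  have o11 := T.orth p p hp hp
  have o12 := T.orth p q hp hq
  rw [if_pos (by rw [hp']; decide)] at o11
  rw [if_neg (by rw [hp', hq']; decide)] at o12
  have hm2 : 1 + V a p * V a p + V a q * V a q ≤ 9 := by
    have := sum_three ha hb T.triv.1 hab hao hbo (fun χ => V χ p * V χ p)
    rw [o11, T.triv.2.2 p hp, hbp] at this
    have : 0 ≤ ∑ χ ∈ ((I.erase o).erase a).erase b, V χ p * V χ p := sum_nonneg fun χ _ => mul_self_nonneg _
    linarith
  have eq3 : V a q = V a p - 3 := by linarith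
  have hm : V a p = 1 ∨ V a p = 2 := by
    rw [eq3] at hm2
    have : 1 ≤ V a p ∧ V a p ≤ 2 := ⟨by nlinarith, by nlinarith⟩
    omega
  set J := ((I.erase o).erase a).erase b with hJ
  have hJm : ∀ χ ∈ J, χ ∈ I ∧ χ ≠ o ∧ V χ q = V χ p := fun χ hχ => by
    simp only [hJ, mem_erase] at hχ
    exact ⟨hχ.2.2.2, hχ.2.2.1, (hrest χ hχ.2.2.2 hχ.2.1 hχ.1).symm⟩
  have hJ3 : ∑ χ ∈ J, V χ p * V χ p = 3 := by
    have := sum_three ha hb T.triv.1 hab hao hbo (fun χ => V χ p * V χ q)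
    rw [o12, T.triv.2.2 p hp, T.triv.2.2 q hq, hbp, hbq, sum_congr rfl fun χ hχ => by rw [(hJm χ hχ).2.2], eq3] at this
    rcases hm with e | e <;> rw [e] at this <;> linarith
  -- the values are constant on the classes
  have hconst : ∀ χ ∈ I, ∀ u v : ZMod 3 × ZMod 3, u ≠ 0 → v ≠ 0 → RelFour u v → V χ u = V χ v := by
    intro χ hχ u v hu hv huv
    have a1 := T.orth u u hu hu
    have a2 := T.orth v v hv hv
    have a3 := T.orth u v hu hv
    rw [if_pos (show RelFour u u from Iff.rfl)] at a1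
    rw [if_pos (show RelFour v v from Iff.rfl)] at a2
    rw [if_pos huv] at a3
    have h0 : ∑ ψ ∈ I, (V ψ u - V ψ v) * (V ψ u - V ψ v) = 0 := by
      rw [sum_congr rfl fun ψ _ => show (V ψ u - V ψ v) * (V ψ u - V ψ v) =
        V ψ u * V ψ u + V ψ v * V ψ v - 2 * (V ψ u * V ψ v) by ring, sum_sub_distrib, sum_add_distrib, ← mul_sum,
        a1, a2, a3]
      norm_num
    exact sub_eq_zero.1 (mul_self_eq_zero.1 ((sum_eq_zero_iff_of_nonneg fun ψ _ => mul_self_nonneg _).1 h0 χ hχ))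
  have hnine : ∀ χ ∈ I, (9 : ℤ) ∣ d χ + 4 * V χ p + 4 * V χ q := by
    intro χ hχ
    have e := T.congr9 χ hχ
    rw [show (Finset.univ : Finset (ZMod 3 × ZMod 3)).erase 0 =
        {(1, 0), (0, 1), (2, 0), (0, 2), (1, 1), (1, 2), (2, 1), (2, 2)} by decide] at e
    rw [sum_insert (by decide), sum_insert (by decide), sum_insert (by decide), sum_insert (by decide),
      sum_insert (by decide), sum_insert (by decide), sum_insert (by decide), sum_singleton,
      ← hp', ← hq', hconst χ hχ (0, 1) p (by decide) hp (by rw [hp']; decide),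
      hconst χ hχ (2, 0) p (by decide) hp (by rw [hp']; decide),
      hconst χ hχ (0, 2) p (by decide) hp (by rw [hp']; decide),
      hconst χ hχ (1, 2) q (by decide) hq (by rw [hq']; decide),
      hconst χ hχ (2, 1) q (by decide) hq (by rw [hq']; decide),
      hconst χ hχ (2, 2) q (by decide) hq (by rw [hq']; decide)] at e
    convert e using 1
    ring
  have hterm : ∀ χ ∈ J, -((V χ p * V χ p : ℤ) : ℚ) / 8 ≤ ((V χ p * V χ p * V χ q : ℤ) : ℚ) / d χ := by
    intro χ hχ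
    obtain ⟨hI, hno, heq⟩ := hJm χ hχ
    rw [heq]
    have h2 := T.deg χ hI hno
    have hle : V χ p * V χ p ≤ 3 := hJ3 ▸ single_le_sum (f := fun ψ => V ψ p * V ψ p) (fun ψ _ => mul_self_nonneg _) hχ
    have hc : -1 ≤ V χ p ∧ V χ p ≤ 1 := ⟨by nlinarith, by nlinarith⟩
    obtain ⟨w, hw⟩ := hnine χ hI
    rw [heq] at hw
    rcases (show V χ p = -1 ∨ V χ p = 0 ∨ V χ p = 1 by omega) with e | e | e <;> rw [e] at hw ⊢
    · have h8 : (8 : ℚ) ≤ d χ := by exact_mod_cast (show (8 : ℤ) ≤ d χ by omega)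
      have := inv_anti₀ (by norm_num : (0 : ℚ) < 8) h8
      push_cast
      rw [div_eq_mul_inv, div_eq_mul_inv]
      linarith
    · simp
    · have : (0 : ℚ) < d χ := by exact_mod_cast (by omega : (0 : ℤ) < d χ)
      have : (0 : ℚ) ≤ ((1 * 1 * 1 : ℤ) : ℚ) / d χ := div_nonneg (by norm_num) this.le
      push_cast at this ⊢
      linarith
  have hbound : -(3 : ℚ) / 8 ≤ ∑ χ ∈ J, ((V χ p * V χ p * V χ q : ℤ) : ℚ) / d χ := by
    refine le_trans (le_of_eq ?_) (sum_le_sum hterm)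
    rw [← sum_div, sum_neg_distrib, ← Int.cast_sum, hJ3]
    norm_num
  have hK := T.classes p p q hp hp hq (by rw [hp', hq']; decide)
  rw [show count RelFour p p q = 2 by rw [hp', hq']; decide, sum_three ha hb T.triv.1 hab hao hbo,
    T.triv.2.2 p hp, T.triv.2.2 q hq, T.triv.2.1, hbp, hbq, ← hdab, eq3] at hK
  have hf2 : 2 ≤ d a := T.deg a ha hao
  have h9 := hnine a ha
  rw [eq3] at h9
  obtain ⟨w, hw⟩ := h9
  have key : (9 : ℚ) / 40 ≤ 162 / n := by
    rcases hm with e | e <;> rw [e] at hK hw <;> push_cast at hK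
    · have hd0 : (0 : ℚ) < d a := by exact_mod_cast (by omega : (0 : ℤ) < d a)
      have : (0 : ℚ) ≤ (d a : ℚ)⁻¹ := (inv_pos.2 hd0).le
      ring_nf at hK hbound ⊢
      push_cast at hK hbound
      linarith
    · have h5 : (5 : ℚ) ≤ d a := by exact_mod_cast (show (5 : ℤ) ≤ d a by omega)
      have := inv_anti₀ (by norm_num : (0 : ℚ) < 5) h5
      ring_nf at hK hbound this ⊢
      push_cast at hK hbound
      linarith
  rw [le_div_iff₀ (by exact_mod_cast hn0)] at key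
  exact_mod_cast (show (n : ℚ) ≤ 720 by linarith)

end CfsgLib.ThreeNine
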